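import Cfsg.Agent.Lib.CharsMore.SCOrder3.Simple
import Cfsg.Agent.Lib.Small.Order60
import Cfsg.Agent.Lib.Small.PSLPrimes
import Cfsg.Agent.Lib.FgsB.OrdersUpToFour

/-!
# Finite groups with a self-centralizing element of order three (Feit–Thompson)

The largest normal subgroup `K` of order prime to three is nilpotent, and the quotient has order
`3`, `6`, `60` or `168`; in the last two cases the preimages of invariant subgroups are nilpotent
of class two, which forces `K` to be an elementary abelian `2`-group, trivial for `168`.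
-/

set_option autoImplicit false
set_option linter.style.haveILetI false
set_option linter.unusedSectionVars false

open scoped Classical

namespace CfsgLib.CharsMore.SCOrder3

open Subgroup CfsgLib.Base

variable {G : Type*} [Group G] [Finite G] {x : G} (h : SC x)
include h

/-- A conjugation invariant subset of the core centralized by an outside element is trivial. -/
theorem SC.eq_one_of_centralizer {K : Subgroup G} [K.Normal] (hK : ¬ 3 ∣ Nat.card K)
    [IsSimpleGroup (G ⧸ K)] (S : Set G) (hS : S ⊆ K) (hconj : ∀ g : G, ∀ s ∈ S, g * s * g⁻¹ ∈ S)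
    {w : G} (hw : w ∉ K) (hc : ∀ s ∈ S, Commute w s) : ∀ s ∈ S, s = 1 := by
  have hInvK : Inv x K :=
    ⟨by rw [Subgroup.normalizer_eq_top_iff.2 inferInstance]; exact Subgroup.mem_top x, hK⟩
  let C := centralizer S
  have hCn : C.Normal := by
    refine ⟨fun c hc' g => mem_centralizer_iff.2 fun s hs => ?_⟩
    have := (mem_centralizer_iff.1 hc') _ (by simpa using hconj g⁻¹ s hs : g⁻¹ * s * g ∈ S)
    calc s * (g * c * g⁻¹) = g * (g⁻¹ * s * g * c) * g⁻¹ := by group
      _ = g * c * g⁻¹ * s := by rw [this]; group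
  have hwC : w ∈ C := mem_centralizer_iff.2 fun s hs => (hc s hs).eq.symm
  have hCt : C.map (QuotientGroup.mk' K) = ⊤ := by
    refine ((hCn.map _ (QuotientGroup.mk'_surjective K)).eq_bot_or_eq_top).resolve_left fun hb => hw ?_
    exact (map_mk'_eq_bot_iff.1 hb) hwC
  have h3C : 3 ∣ Nat.card C := by
    have h1 := Subgroup.card_map_dvd C (QuotientGroup.mk' K)
    rw [hCt, Subgroup.card_top] at h1
    exact ((h.quotient K hK).three_dvd_card).trans h1
  obtain ⟨g, hg⟩ := h.exists_conj_mem h3C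
  have hxC := h.normal_eq_top_of_mem hCn hg
  exact fun s hs => hInvK.eq_one_of_commute h (hS hs) (mem_centralizer_iff.1 hxC s hs)

/-- The preimage of an invariant subgroup is invariant. -/
theorem SC.inv_comap {K : Subgroup G} [K.Normal] (hK : ¬ 3 ∣ Nat.card K) {W : Subgroup (G ⧸ K)}
    (hW : Inv (QuotientGroup.mk' K x) W) : Inv x (W.comap (QuotientGroup.mk' K)) := by
  refine ⟨Subgroup.le_normalizer_comap _
    (show QuotientGroup.mk' K x ∈ normalizer (W : Set (G ⧸ K)) from hW.1), ?_⟩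
  rw [card_comap_mk']
  exact fun hd => (Nat.prime_three.dvd_mul.1 hd).elim hK hW.2

/-- The `p`-part of the core dies if some element of `InT` upstairs has order prime to `p`. -/
theorem SC.sylow_core_eq_bot {K : Subgroup G} [hKn : K.Normal] (hK : ¬ 3 ∣ Nat.card K)
    [IsSimpleGroup (G ⧸ K)] {p : ℕ} [hp : Fact p.Prime] (P : Sylow p K) {a : G ⧸ K} (ha1 : a ≠ 1)
    (ha : InT (QuotientGroup.mk' K x) a) (hap : ¬ p ∣ orderOf a) : (P : Subgroup K) = ⊥ := by
  obtain ⟨W, hW, haW⟩ := exists_inv_of_inT (h.quotient K hK) ha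
  have hU := h.inv_comap hK hW
  obtain ⟨w, rfl⟩ := QuotientGroup.mk'_surjective K a
  have hInvK : Inv x K :=
    ⟨by rw [Subgroup.normalizer_eq_top_iff.2 inferInstance]; exact Subgroup.mem_top x, hK⟩
  haveI := hInvK.isNilpotent h
  have hPn : (P : Subgroup K).Normal :=
    P.normal_of_normalizerCondition Group.normalizerCondition_of_isNilpotent
  haveI : Subsingleton (Sylow p K) := Sylow.unique_of_normal P hPn |>.instSubsingleton
  set R := (P : Subgroup K).map K.subtype with hR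
  have hRK : R ≤ K := Subgroup.map_subtype_le _
  have hRp : IsPGroup p R := P.isPGroup'.map _
  have hconj : ∀ g : G, ∀ s ∈ (R : Set G), g * s * g⁻¹ ∈ (R : Set G) := by
    intro g s hs
    have hsK : g * s * g⁻¹ ∈ K := hKn.conj_mem s (hRK hs) g
    have hpm : IsPGroup p (zpowers (g * s * g⁻¹)) := by
      have := (hRp.to_le (zpowers_le.2 hs)).map (MulAut.conj g).toMonoidHom
      rwa [MonoidHom.map_zpowers] at this
    obtain ⟨Q, hQ⟩ := (hpm.comap_subtype (K := K)).exists_le_sylow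
    rw [Subsingleton.elim Q P] at hQ
    exact ⟨⟨_, hsK⟩, hQ (mem_zpowers _ : g * s * g⁻¹ ∈ zpowers (g * s * g⁻¹)), rfl⟩
  -- a power of `w` of order prime to `p` outside `K`
  let e := p ^ (orderOf w).factorization p
  have hne : orderOf w ≠ 0 := (orderOf_pos w).ne'
  have hcop : (orderOf (w ^ e)).Coprime p := by
    rw [orderOf_pow' _ (pow_ne_zero _ hp.out.ne_zero), Nat.gcd_eq_right (Nat.ordProj_dvd _ _)]
    exact (Nat.coprime_ordCompl hp.out hne).symm
  have hout : w ^ e ∉ K := fun hmem => by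
    have h1 : QuotientGroup.mk' K w ^ e = 1 := by
      rw [← map_pow]; exact (QuotientGroup.eq_one_iff _).2 hmem
    have h2 : Nat.Coprime (orderOf (QuotientGroup.mk' K w)) e :=
      Nat.Coprime.pow_right _ ((hp.out.coprime_iff_not_dvd.2 hap).symm)
    exact ha1 (orderOf_eq_one_iff.1 (Nat.eq_one_of_dvd_coprimes h2 dvd_rfl (orderOf_dvd_of_pow_eq_one h1)))
  have hwU : w ^ e ∈ W.comap (QuotientGroup.mk' K) := pow_mem (show w ∈ _ from haW) _
  have hRU : R ≤ W.comap (QuotientGroup.mk' K) := hRK.trans (QuotientGroup.le_comap_mk' K W)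
  have hall := h.eq_one_of_centralizer hK (R : Set G) hRK hconj hout fun s hs =>
    (MinNonNilpotent.commute_of_nilpotent (hU.isNilpotent h) hRp hRU hwU hcop s hs).symm
  refine (Subgroup.eq_bot_iff_forall _).2 fun r hr => Subtype.ext ?_
  exact hall _ ⟨r, hr, rfl⟩

/-- The core is an elementary abelian `2`-group when it is a `2`-group. -/
theorem SC.core_elementary {K : Subgroup G} [hKn : K.Normal] (hK : ¬ 3 ∣ Nat.card K)
    [IsSimpleGroup (G ⧸ K)] {u : G ⧸ K} (hu2 : orderOf u = 2)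
    (hu : InT (QuotientGroup.mk' K x) u) :
    IsMulCommutative K ∧ ∀ n ∈ K, n ^ 2 = 1 := by
  obtain ⟨W, hW, huW⟩ := exists_inv_of_inT (h.quotient K hK) hu
  have hU := h.inv_comap hK hW
  obtain ⟨w, rfl⟩ := QuotientGroup.mk'_surjective K u
  have hwK : w ∉ K := fun e => by
    rw [show QuotientGroup.mk' K w = 1 from (QuotientGroup.eq_one_iff w).2 e, orderOf_one] at hu2
    omega
  have hwU : w ∈ W.comap (QuotientGroup.mk' K) := huW
  have hKU : K ≤ W.comap (QuotientGroup.mk' K) := QuotientGroup.le_comap_mk' K W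
  have hab : ∀ a ∈ K, ∀ b ∈ K, Commute a b := by
    intro a ha b hb
    have hall := h.eq_one_of_centralizer hK
      {s | ∃ a ∈ K, ∃ b ∈ K, a * b * a⁻¹ * b⁻¹ = s}
      (by
        rintro s ⟨a, ha, b, hb, rfl⟩
        exact mul_mem (mul_mem (mul_mem ha hb) (inv_mem ha)) (inv_mem hb))
      (by
        rintro g s ⟨a, ha, b, hb, rfl⟩
        exact ⟨_, hKn.conj_mem a ha g, _, hKn.conj_mem b hb g, by group⟩)
      hwK (by
        rintro s ⟨a, ha, b, hb, rfl⟩
        exact (hU.commutator_central h (hKU ha) (hKU hb) hwU).symm)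
      (a * b * a⁻¹ * b⁻¹) ⟨a, ha, b, hb, rfl⟩
    exact mul_inv_eq_iff_eq_mul.1 (mul_inv_eq_one.1 hall)
  refine ⟨⟨⟨fun a b => Subtype.ext (hab _ a.2 _ b.2)⟩⟩, fun n hn => ?_⟩
  refine h.eq_one_of_centralizer hK {s | ∃ k ∈ K, k ^ 2 = s}
    (by rintro s ⟨k, hk, rfl⟩; exact pow_mem hk 2)
    (by
      rintro g s ⟨k, hk, rfl⟩
      exact ⟨_, hKn.conj_mem k hk g, conj_pow⟩)
    hwK ?_ (n ^ 2) ⟨n, hn, rfl⟩
  rintro s ⟨k, hk, rfl⟩
  have hw2 : w * w ∈ K := by
    rw [← QuotientGroup.eq_one_iff, QuotientGroup.mk_mul, ← _root_.sq]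
    have := pow_orderOf_eq_one (QuotientGroup.mk' K w)
    rwa [hu2] at this
  obtain ⟨c, hc⟩ : ∃ c, c = w * k * w⁻¹ * k⁻¹ := ⟨_, rfl⟩
  have hcK : c ∈ K := hc ▸ mul_mem (hKn.conj_mem k hk w) (inv_mem hk)
  have hwc : Commute c w := hc ▸ hU.commutator_central h hwU (hKU hk) hwU
  have hck : Commute c k := hab _ hcK _ hk
  have h1 : w * k * w⁻¹ = c * k := by rw [hc]; group
  have hcc : c * c = 1 := by
    have e : w * (w * k * w⁻¹) * w⁻¹ = c * c * k := by
      rw [h1, show w * (c * k) * w⁻¹ = (w * c * w⁻¹) * (w * k * w⁻¹) by group, ← hwc.eq,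
        mul_inv_cancel_right, h1, mul_assoc]
    have e2 : w * (w * k * w⁻¹) * w⁻¹ = k := by
      calc w * (w * k * w⁻¹) * w⁻¹ = (w * w) * k * (w * w)⁻¹ := by group
        _ = k := by rw [(hab _ hw2 _ hk).eq, mul_inv_cancel_right]
    exact mul_eq_right.1 (e.symm.trans e2)
  show w * k ^ 2 = k ^ 2 * w
  refine mul_inv_eq_iff_eq_mul.1 ?_
  rw [_root_.sq, show w * (k * k) * w⁻¹ = (w * k * w⁻¹) * (w * k * w⁻¹) by group, h1]
  calc c * k * (c * k) = c * (k * c) * k := by group
    _ = c * c * (k * k) := by rw [← hck.eq]; group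
    _ = k * k := by rw [hcc, one_mul]

/-- Feit–Thompson's theorem on self-centralizing elements of order three. -/
theorem SC.classification :
    (∃ (N : Subgroup G) (hN : N.Normal), Group.IsNilpotent N ∧ (Nat.card N).Coprime 3 ∧
        (Nat.card (G ⧸ N) = 3 ∨ Nonempty (G ⧸ N ≃* Equiv.Perm (Fin 3)))) ∨
    (∃ (N : Subgroup G) (hN : N.Normal), IsMulCommutative N ∧ (∀ n ∈ N, n ^ 2 = 1) ∧
        Nonempty (G ⧸ N ≃* alternatingGroup (Fin 5))) ∨
    Nonempty (G ≃* Matrix.ProjectiveSpecialLinearGroup (Fin 2) (ZMod 7)) := by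
  obtain ⟨K, hKn, hK3, hKmax⟩ := exists_core G
  haveI := hKn
  have hS := h.quotient K hK3
  have hInvK : Inv x K :=
    ⟨by rw [Subgroup.normalizer_eq_top_iff.2 hKn]; exact Subgroup.mem_top x, hK3⟩
  have hcore : ∀ N : Subgroup (G ⧸ K), N.Normal → ¬ 3 ∣ Nat.card N → N = ⊥ := by
    intro N hN hN3
    have h1 := hKmax (N.comap (QuotientGroup.mk' K)) (hN.comap _) (by
      rw [card_comap_mk']
      exact fun hd => (Nat.prime_three.dvd_mul.1 hd).elim hK3 hN3)
    refine (Subgroup.eq_bot_iff_forall _).2 fun n hn => ?_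
    obtain ⟨m, rfl⟩ := QuotientGroup.mk'_surjective K n
    exact (QuotientGroup.eq_one_iff m).2 (h1 hn)
  rcases hS.trichotomy hcore with ⟨-, hcard⟩ | ⟨hsimple, hnc⟩
  · refine Or.inl ⟨K, hKn, hInvK.isNilpotent h,
      (Nat.prime_three.coprime_iff_not_dvd.2 hK3).symm, hcard.imp_right fun h6 => ?_⟩
    refine FgsB.OrdersFour.nonempty_perm_three h6 fun g hg => ?_
    have := hS.orderOf_eq_three (y := g) (by omega)
    omega
  haveI := hsimple
  obtain ⟨u, hu2, hu⟩ := hS.exists_inv_ne_bot hnc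
  rcases hS.card_of_simple hnc with h60 | ⟨h168, a, ha1, ha, haodd⟩
  · refine Or.inr (Or.inl ⟨K, hKn, ?_⟩)
    obtain ⟨hab, hexp⟩ := h.core_elementary hK3 hu2 hu
    exact ⟨hab, hexp, Small.equiv_alternating_five h60⟩
  · refine Or.inr (Or.inr ?_)
    have hKbot : K = ⊥ := by
      by_contra hne
      obtain ⟨p, hp, hpd⟩ := Nat.exists_prime_and_dvd (fun e => hne (Subgroup.card_eq_one.1 e))
      haveI := Fact.mk hp
      obtain ⟨P, hP⟩ := exists_prime_sylow hpd
      refine hP ?_
      by_cases h2 : p = 2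
      · exact h.sylow_core_eq_bot hK3 P ha1 ha (fun hd => by
          have := Nat.odd_iff.1 haodd
          subst h2
          omega)
      · refine h.sylow_core_eq_bot hK3 P (fun e => by rw [e, orderOf_one] at hu2; omega) hu ?_
        rw [hu2]
        exact fun hd => h2 ((Nat.prime_dvd_prime_iff_eq hp Nat.prime_two).1 hd)
    subst hKbot
    haveI : Fact (Nat.Prime 7) := ⟨by norm_num⟩
    obtain ⟨e⟩ := Small.equiv_PSL_two_7 (G := G ⧸ (⊥ : Subgroup G)) (by rw [h168]; norm_num)
      (F := ZMod 7) (ZMod.card 7)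
    exact ⟨QuotientGroup.quotientBot.symm.trans e⟩

end CfsgLib.CharsMore.SCOrder3
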