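import Mathlib

/-!
# Self-centralizing elements of order three: arithmetic

`A`, `A + 1` are the two degrees, `m = A - s`, `c = |C(t)|`.
-/

set_option autoImplicit false
set_option synthInstance.maxSize 100000

namespace CfsgLib.CharsMore.SCOrder3

/-- The conditions of a candidate with a class of even order. -/
def badEven (n A m : ℕ) : Bool :=
  let c := n * m * m / (A * (A + 1))
  (n * m * m % (A * (A + 1)) == 0) && (c % 12 == 4) && (Nat.gcd c n == 1) && (5 ≤ c / 4 * 4) &&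
    (2 * A + 4 ≤ 3 * m) && (3 * m ≤ 4 * A + 2) && ((m + (A + 2) / 3 + A) % 2 == 0) &&
    (5 * n * c * (A * A + 2 + (2 * A + 1) * m) ≤
      5 * n * c * ((2 * A + 1) * A) + 12 * (A * (A + 1)) * (n + 5 * c))

theorem badEven_false : ∀ n < 66, n % 6 = 5 → ∀ A < n, A % 3 = 1 → 4 ≤ A →
    (A * (A + 1)) % n = 0 → ∀ m < 90, badEven n A m = false := by
  decide +kernel

/-- The case of a class of even order: `|C(t)| = 4` and five classes. -/
theorem even_case {n c A m P : ℕ} (hA4 : 4 ≤ A) (hA : A % 3 = 1) (hAn : A < n) (hn : n % 6 = 5)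
    (hc : c % 12 = 4) (hcop : Nat.Coprime c n) (hm1 : 2 * A + 4 ≤ 3 * m) (hm2 : 3 * m ≤ 4 * A + 2)
    (hpar : (m + (A + 2) / 3 + A) % 2 = 0) (heq : c * (A * (A + 1)) = n * (m * m))
    (hP : 5 * P ≤ n) (h36 : n * c < 36 * (c + P))
    (hineq : n * c * (A * A + 2 + (2 * A + 1) * m) ≤
      n * c * ((2 * A + 1) * A) + 12 * (A * (A + 1)) * (P + c)) : c = 4 ∧ n = 5 := by
  have hN : 0 < A * (A + 1) := by positivity
  by_cases h4 : c = 4
  · subst h4
    refine ⟨rfl, ?_⟩
    have h1 : n * ((2 * A + 4) * (2 * A + 4)) ≤ n * ((3 * m) * (3 * m)) :=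
      Nat.mul_le_mul_left n (Nat.mul_le_mul hm1 hm1)
    have h2 : n < 9 := by nlinarith
    omega
  exfalso
  have h16 : 16 ≤ c := by omega
  have hn66 : n < 66 := by nlinarith
  have hdvd : A * (A + 1) % n = 0 := by
    refine Nat.mod_eq_zero_of_dvd ?_
    refine (Nat.Coprime.dvd_of_dvd_mul_left hcop.symm ?_)
    exact ⟨m * m, heq⟩
  have hdiv : n * m * m / (A * (A + 1)) = c := by
    rw [mul_assoc, ← heq, Nat.mul_div_cancel _ hN]
  have h := badEven_false n hn66 hn A hAn hA hA4 hdvd m (by omega)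
  simp only [badEven, hdiv, Bool.and_eq_false_iff, beq_eq_false_iff_ne, decide_eq_false_iff_not] at h
  have h0 : n * m * m % (A * (A + 1)) = 0 := by
    rw [mul_assoc, ← heq, Nat.mul_mod_left]
  have hg : Nat.gcd c n = 1 := hcop
  have h5 : 5 * n * c * (A * A + 2 + (2 * A + 1) * m) ≤
      5 * n * c * ((2 * A + 1) * A) + 12 * (A * (A + 1)) * (n + 5 * c) := by
    nlinarith [Nat.mul_le_mul_left 5 hineq, Nat.mul_le_mul_left (12 * (A * (A + 1))) hP]
  omega

theorem degrees_1140 : ∀ A < 24, A % 3 = 1 → 4 ≤ A → 1140 % A = 0 → 1140 % (A + 1) = 0 →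
    A = 4 ∨ A = 19 := by
  decide +kernel

theorem degrees_2976 : ∀ A < 39, A % 3 = 1 → 4 ≤ A → 2976 % A = 0 → 2976 % (A + 1) = 0 →
    A = 31 := by
  decide +kernel

/-- There is no group of order `1140` here. -/
theorem no_1140 {A c m : ℕ} (hA4 : 4 ≤ A) (hA : A % 3 = 1) (h1 : A ∣ 1140) (h2 : A + 1 ∣ 1140)
    (h3 : A * A + (A + 1) * (A + 1) < 1140) (hc : 4 ∣ c) (hcd : c ∣ 1140) (hm1 : 2 * A + 4 ≤ 3 * m)
    (hm2 : 3 * m ≤ 4 * A + 2) (hpar : (m + (A + 2) / 3 + A) % 2 = 0)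
    (heq : 3 * (c * c) * (A * (A + 1)) = 1140 * (m * m))
    (hineq : 1140 * (A * A + 2 + (2 * A + 1) * m) ≤
      1140 * ((2 * A + 1) * A) + 18 * (A * (A + 1)) * 36) : False := by
  rcases degrees_1140 A (by nlinarith) hA hA4 (Nat.mod_eq_zero_of_dvd h1) (Nat.mod_eq_zero_of_dvd h2)
    with rfl | rfl
  · have : m ≤ 6 := by omega
    interval_cases m <;> omega
  · have hmc : m = c := by
      have h : c * c = m * m := by omega
      exact (Nat.mul_self_inj.1 h).symm
    subst hmc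
    have : m ≤ 26 := by omega
    interval_cases m <;> omega

/-- There is no group of order `2976` here. -/
theorem no_2976 {A c m : ℕ} (hA4 : 4 ≤ A) (hA : A % 3 = 1) (h1 : A ∣ 2976) (h2 : A + 1 ∣ 2976)
    (h3 : A * A + (A + 1) * (A + 1) < 2976) (hc : 4 ∣ c) (hcd : c ∣ 2976) (hm1 : 2 * A + 4 ≤ 3 * m)
    (hm2 : 3 * m ≤ 4 * A + 2) (hpar : (m + (A + 2) / 3 + A) % 2 = 0)
    (heq : 3 * (c * c) * (A * (A + 1)) = 2976 * (m * m))
    (hineq : 2976 * (A * A + 2 + (2 * A + 1) * m) ≤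
      2976 * ((2 * A + 1) * A) + 18 * (A * (A + 1)) * 60) : False := by
  obtain rfl := degrees_2976 A (by nlinarith) hA hA4 (Nat.mod_eq_zero_of_dvd h1) (Nat.mod_eq_zero_of_dvd h2)
  have hmc : m = c := by
    have h : c * c = m * m := by omega
    exact (Nat.mul_self_inj.1 h).symm
  subst hmc
  have : m ≤ 42 := by omega
  interval_cases m <;> omega

/-- Two coprime classes already cover too few elements. -/
theorem nine_sum_le {s : Finset ℕ} (h7 : ∀ a ∈ s, 7 ≤ a) (hmod : ∀ a ∈ s, a % 6 = 1) :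
    (∑ a ∈ s, a) ≤ ∏ a ∈ s, a ∧ (2 ≤ s.card → 9 * ∑ a ∈ s, a ≤ 2 * ∏ a ∈ s, a) := by
  induction s using Finset.induction_on with
  | empty => simp
  | insert a s ha ih =>
    obtain ⟨ih1, ih2⟩ := ih (fun b hb => h7 b (Finset.mem_insert_of_mem hb))
      (fun b hb => hmod b (Finset.mem_insert_of_mem hb))
    have ha7 := h7 a (Finset.mem_insert_self a s)
    rw [Finset.sum_insert ha, Finset.prod_insert ha]
    rcases Nat.lt_or_ge s.card 2 with hs | hs
    · rcases Nat.eq_zero_or_pos s.card with h0 | h0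
      · rw [Finset.card_eq_zero] at h0; subst h0; simp
      · obtain ⟨b, rfl⟩ := Finset.card_eq_one.1 (show s.card = 1 by omega)
        have hb7 := h7 b (by simp)
        have hne : a ≠ b := by simpa using ha
        have hb6 := hmod b (by simp)
        have ha6 := hmod a (Finset.mem_insert_self a _)
        simp only [Finset.sum_singleton, Finset.prod_singleton]
        refine ⟨by nlinarith, fun _ => ?_⟩
        rcases (show a ≤ b ∧ 13 ≤ b ∨ b < a ∧ 13 ≤ a by omega) with ⟨h1, h2⟩ | ⟨h1, h2⟩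
        · nlinarith [Nat.mul_le_mul_right a h2, Nat.mul_le_mul_right b ha7]
        · nlinarith [Nat.mul_le_mul_right b h2, Nat.mul_le_mul_right a hb7]
    · have h2' := ih2 hs
      have hp : 7 ≤ ∏ b ∈ s, b := by
        obtain ⟨b, hb⟩ := Finset.card_pos.1 (show 0 < s.card by omega)
        have h1 : 7 ≤ b := h7 b (Finset.mem_insert_of_mem hb)
        exact h1.trans (Nat.le_of_dvd (Finset.prod_pos fun c hc =>
          lt_of_lt_of_le (by norm_num) (h7 c (Finset.mem_insert_of_mem hc))) (Finset.dvd_prod_of_mem _ hb))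
      refine ⟨?_, fun _ => ?_⟩ <;> nlinarith [Nat.mul_le_mul_left a hp, Nat.mul_le_mul_right (∏ b ∈ s, b) ha7]

end CfsgLib.CharsMore.SCOrder3
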