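import Mathlib
import Cfsg.Agent.Lib.Base.ThompsonFPF

/-!
# Self-centralizing elements of order three: basic facts

Elements of order divisible by three have order three; invariant subgroups of order prime to three
are nilpotent of class at most two.
-/

set_option autoImplicit false
set_option linter.style.haveILetI false
set_option linter.unusedSectionVars false

namespace CfsgLib.CharsMore.SCOrder3

open Subgroup
open scoped Pointwise

variable {G : Type*} [Group G]

/-- `x` has order three and generates its centralizer. -/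
structure SC (x : G) : Prop where
  ord : orderOf x = 3
  cent : ∀ g : G, Commute g x → g = 1 ∨ g = x ∨ g = x ^ 2

/-- An `x`-invariant subgroup of order prime to three. -/
def Inv (x : G) (U : Subgroup G) : Prop :=
  x ∈ normalizer (U : Set G) ∧ ¬ 3 ∣ Nat.card U

/-- The elements of the invariant subgroups of order prime to three. -/
def InT (x a : G) : Prop := orderOf (a * x) = 3 ∧ orderOf (a * x ^ 2) = 3

namespace SC

variable {x : G} (h : SC x)
include h

theorem cube : x ^ 3 = 1 := h.ord ▸ pow_orderOf_eq_one x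

theorem ne_one : x ≠ 1 := fun e => by have := h.ord; rw [e, orderOf_one] at this; omega

theorem sq_ne_one : x ^ 2 ≠ 1 := fun e => by
  have := Nat.le_of_dvd (by norm_num) (h.ord ▸ orderOf_dvd_of_pow_eq_one e); omega

theorem sq_ne_self : x ^ 2 ≠ x := fun e => h.ne_one (by rw [sq] at e; exact mul_eq_left.1 e)

theorem sq_eq_inv : x ^ 2 = x⁻¹ := eq_inv_of_mul_eq_one_left (by rw [← pow_succ, h.cube])

theorem mem_zpowers_iff {g : G} : g ∈ zpowers x ↔ g = 1 ∨ g = x ∨ g = x ^ 2 := by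
  refine ⟨fun hg => h.cent g ?_, ?_⟩
  · obtain ⟨i, rfl⟩ := Subgroup.mem_zpowers_iff.1 hg
    exact (Commute.refl x).zpow_left i
  · rintro (e | e | e) <;> rw [e]
    exacts [one_mem _, mem_zpowers x, pow_mem (mem_zpowers x) 2]

theorem centralizer_eq : centralizer ({x} : Set G) = zpowers x := by
  ext g
  rw [mem_centralizer_singleton_iff]
  refine ⟨fun hg => h.mem_zpowers_iff.2 (h.cent g hg), fun hg => ?_⟩
  obtain ⟨i, rfl⟩ := Subgroup.mem_zpowers_iff.1 hg
  exact ((Commute.refl x).zpow_left i).eq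

theorem card_centralizer : Nat.card (centralizer ({x} : Set G)) = 3 := by
  rw [h.centralizer_eq, Nat.card_zpowers, h.ord]

theorem sq : SC (x ^ 2) where
  ord := by
    rw [h.sq_eq_inv, orderOf_inv, h.ord]
  cent g hg := by
    have hx : (x ^ 2) ^ 2 = x := by rw [← pow_mul, pow_succ, h.cube, one_mul]
    have h1 := hg.pow_right 2
    rw [hx] at h1
    rcases h.cent g h1 with e | e | e
    · exact Or.inl e
    · exact Or.inr (Or.inr (by rw [e, hx]))
    · exact Or.inr (Or.inl e)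

theorem conj (g : G) : SC (g * x * g⁻¹) where
  ord := by rw [← MulAut.conj_apply, MulEquiv.orderOf_eq, h.ord]
  cent k hk := by
    have h1 : Commute (g⁻¹ * k * g) x := by
      have := hk.map (MulAut.conj g⁻¹).toMonoidHom
      simpa [mul_assoc] using this
    rcases h.cent _ h1 with e | e | e
    · left; rw [mul_assoc, inv_mul_eq_one] at e; exact mul_eq_right.1 e.symm
    · right; left; rw [← e]; group
    · right; right; rw [conj_pow, ← e]; group

variable [Finite G]

/-- `zpowers x` is a Sylow subgroup. -/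
theorem exists_conj {y : G} (hy : orderOf y = 3) :
    ∃ g : G, g * x * g⁻¹ = y ∨ g * x ^ 2 * g⁻¹ = y := by
  haveI := Fact.mk Nat.prime_three
  have hp : IsPGroup 3 (zpowers x) := IsPGroup.of_card (n := 1) (by rw [Nat.card_zpowers, h.ord, pow_one])
  obtain ⟨P, hP⟩ := hp.exists_le_sylow
  have hPeq : (P : Subgroup G) = zpowers x := by
    refine le_antisymm (fun g hg => ?_) hP
    by_contra hgx
    have hlt : zpowers x < (P : Subgroup G) := lt_of_le_of_ne hP fun e => hgx (e ▸ hg)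
    haveI := P.isPGroup'.isNilpotent
    have hne : (zpowers x).subgroupOf P < ⊤ := lt_top_iff_ne_top.2 fun e =>
      hlt.not_ge (Subgroup.subgroupOf_eq_top.1 e)
    obtain ⟨z, hz, hzx⟩ := SetLike.exists_of_lt (Group.normalizerCondition_of_isNilpotent _ hne)
    rw [Subgroup.mem_subgroupOf] at hzx
    have h1 := (Subgroup.mem_normalizer_iff.1 hz ⟨x, hP (mem_zpowers x)⟩).1
      (Subgroup.mem_subgroupOf.2 (mem_zpowers x))
    rw [Subgroup.mem_subgroupOf] at h1
    simp only [Subgroup.coe_mul, InvMemClass.coe_inv] at h1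
    obtain ⟨n, hn⟩ := IsPGroup.iff_orderOf.1 P.isPGroup' z
    have hn' : orderOf (z : G) = 3 ^ n := by rw [Subgroup.orderOf_coe, hn]
    rcases h.mem_zpowers_iff.1 h1 with e | e | e
    · exact h.ne_one (by simpa using e)
    · exact hzx (h.mem_zpowers_iff.2 (h.cent _ (mul_inv_eq_iff_eq_mul.1 e : _ = _)))
    · -- an element of odd order cannot invert `x`
      have h2 : Commute ((z : G) * z) x := by
        show (z : G) * z * x = x * ((z : G) * z)
        refine mul_inv_eq_iff_eq_mul.1 ?_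
        calc (z : G) * z * x * ((z : G) * z)⁻¹ = (z : G) * ((z : G) * x * (z : G)⁻¹) * (z : G)⁻¹ := by group
          _ = ((z : G) * x * (z : G)⁻¹) ^ 2 := by
            rw [conj_pow]; nth_rewrite 1 [e]; rfl
          _ = x := by rw [e, ← pow_mul, pow_succ, h.cube, one_mul]
      obtain ⟨k, hk⟩ : ∃ k, ((z : G) * z) ^ k = z := by
        have hodd : Nat.Coprime 2 (orderOf (z : G)) := by
          rw [hn']; exact Nat.Coprime.pow_right _ (by norm_num)
        obtain ⟨k, -, hk⟩ := Nat.exists_mul_mod_eq_one_of_coprime hodd (by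
          by_contra hle
          have h0 := orderOf_pos (z : G)
          have h1' : orderOf (z : G) = 1 := by omega
          rw [orderOf_eq_one_iff] at h1'
          exact hzx (by rw [h1']; exact one_mem _))
        exact ⟨k, by rw [← _root_.sq, ← pow_mul, ← pow_mod_orderOf, hk, pow_one]⟩
      have h3 : Commute (z : G) x := hk ▸ h2.pow_left k
      exact hzx (h.mem_zpowers_iff.2 (h.cent _ h3))
  have hpy : IsPGroup 3 (zpowers y) := IsPGroup.of_card (n := 1) (by rw [Nat.card_zpowers, hy, pow_one])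
  obtain ⟨Q, hQ⟩ := hpy.exists_le_sylow
  obtain ⟨g, hg⟩ := MulAction.exists_smul_eq G P Q
  have h1 : y ∈ (Q : Subgroup G) := hQ (mem_zpowers y)
  rw [← hg, Sylow.coe_subgroup_smul] at h1
  obtain ⟨w, hw, hwy⟩ := h1
  rw [hPeq] at hw
  have hwy' : g * w * g⁻¹ = y := hwy
  rcases h.mem_zpowers_iff.1 hw with rfl | rfl | rfl
  · rw [mul_one, mul_inv_cancel] at hwy'; rw [← hwy', orderOf_one] at hy; omega
  · exact ⟨g, Or.inl hwy'⟩
  · exact ⟨g, Or.inr hwy'⟩

theorem sc_of_order {y : G} (hy : orderOf y = 3) : SC y := by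
  obtain ⟨g, e | e⟩ := h.exists_conj hy
  exacts [e ▸ h.conj g, e ▸ h.sq.conj g]

/-- An element of order divisible by three has order three. -/
theorem orderOf_eq_three {y : G} (hy : 3 ∣ orderOf y) : orderOf y = 3 := by
  obtain ⟨k, hk⟩ := hy
  have hk0 : k ≠ 0 := fun e => (orderOf_pos y).ne' (by rw [hk, e])
  have hord : orderOf (y ^ k) = 3 := by
    rw [orderOf_pow' _ hk0, hk, Nat.gcd_eq_right (dvd_mul_left k 3),
      Nat.mul_div_cancel _ (Nat.pos_of_ne_zero hk0)]
  have hS := h.sc_of_order hord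
  rcases hS.cent y (Commute.self_pow y k) with e | e | e
  · have : orderOf y = 1 := by rw [e, orderOf_one]
    omega
  · exact e ▸ hord
  · rw [e]; exact hS.sq.ord

theorem not_nine_dvd : ¬ 9 ∣ Nat.card G := by
  intro h9
  haveI := Fact.mk Nat.prime_three
  obtain ⟨P⟩ := (inferInstance : Nonempty (Sylow 3 G))
  have h9P : 9 ∣ Nat.card (P : Subgroup G) := P.pow_dvd_card_of_pow_dvd_card (n := 2) h9
  haveI : Nontrivial (P : Subgroup G) := Finite.one_lt_card_iff_nontrivial.1
    (lt_of_lt_of_le (by norm_num) (Nat.le_of_dvd Nat.card_pos h9P))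
  obtain ⟨z, hz, hz1⟩ := (Subgroup.nontrivial_iff_exists_ne_one _).1 P.isPGroup'.center_nontrivial
  obtain ⟨n, hn⟩ := IsPGroup.iff_orderOf.1 P.isPGroup' z
  have hz3 : orderOf (z : G) = 3 := h.orderOf_eq_three (by
    rw [Subgroup.orderOf_coe, hn]
    refine dvd_pow_self 3 fun e => hz1 ?_
    rw [e, pow_zero, orderOf_eq_one_iff] at hn
    exact hn)
  have hle : (P : Subgroup G) ≤ zpowers (z : G) := fun g hg => by
    rw [(h.sc_of_order hz3).mem_zpowers_iff]
    refine (h.sc_of_order hz3).cent g ?_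
    exact congrArg Subtype.val (Subgroup.mem_center_iff.1 hz ⟨g, hg⟩)
  have := Subgroup.card_le_of_le hle
  rw [Nat.card_zpowers, hz3] at this
  have := Nat.le_of_dvd Nat.card_pos h9P
  omega

theorem three_dvd_card : 3 ∣ Nat.card G := h.ord ▸ orderOf_dvd_natCard x

/-- A subgroup of order divisible by three contains a conjugate of `x`. -/
theorem exists_conj_mem {U : Subgroup G} (hU : 3 ∣ Nat.card U) : ∃ g : G, g * x * g⁻¹ ∈ U := by
  haveI := Fact.mk Nat.prime_three
  obtain ⟨y, hy⟩ := exists_prime_orderOf_dvd_card' 3 hU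
  rw [← Subgroup.orderOf_coe] at hy
  obtain ⟨g, e | e⟩ := h.exists_conj hy
  · exact ⟨g, e ▸ y.2⟩
  · refine ⟨g, ?_⟩
    have h1 : (g * x ^ 2 * g⁻¹) ^ 2 ∈ U := pow_mem (e ▸ y.2) 2
    rwa [conj_pow, ← pow_mul, pow_succ, h.cube, one_mul] at h1

theorem normal_eq_top_of_mem {N : Subgroup G} (hN : N.Normal) {g : G} (hg : g * x * g⁻¹ ∈ N) :
    x ∈ N := by
  have := hN.conj_mem _ hg g⁻¹
  simpa [mul_assoc] using this

end SC

/-- The relations in the orbit of an element of `InT`. -/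
theorem InT.orbit {x : G} (h : SC x) {a : G} (ha : InT x a) :
    x * (x * (x * a * x⁻¹) * x⁻¹) * x⁻¹ = a ∧ Commute a (x * a * x⁻¹) ∧
      Commute a (x * (x * a * x⁻¹) * x⁻¹) ∧
      Commute (x * a * x⁻¹) (x * (x * a * x⁻¹) * x⁻¹) := by
  obtain ⟨h1, h2⟩ := ha
  have cube_eq : ∀ y : G, y ^ 3 = 1 → y * y * y = 1 := fun y hy => by rwa [pow_three'] at hy
  have e1 := cube_eq _ (h1 ▸ pow_orderOf_eq_one (a * x))
  have e2 := cube_eq _ (h2 ▸ pow_orderOf_eq_one (a * x ^ 2))
  have hx3 := cube_eq _ h.cube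
  have hxi : x⁻¹ = x * x := inv_eq_of_mul_eq_one_right (by rw [← mul_assoc, hx3])
  rw [_root_.sq] at e2
  obtain ⟨a1, ha1⟩ : ∃ a1, x * a * x⁻¹ = a1 := ⟨_, rfl⟩
  obtain ⟨a2, ha2⟩ : ∃ a2, x * a1 * x⁻¹ = a2 := ⟨_, rfl⟩
  rw [ha1, ha2]
  have ha0 : x * a2 * x⁻¹ = a := by
    rw [← ha2, ← ha1]
    calc x * (x * (x * a * x⁻¹) * x⁻¹) * x⁻¹ = (x * x * x) * a * (x * x * x)⁻¹ := by group
      _ = a := by rw [hx3]; group
  have f1 : a * a1 * a2 = 1 := by
    calc a * a1 * a2 = a * x * (a * x) * (a * x) * (x * x * x)⁻¹ := by rw [← ha2, ← ha1]; group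
      _ = 1 := by rw [e1, hx3]; group
  have f2 : a * a2 * a1 = 1 := by
    calc a * a2 * a1 = a * (x * x) * a * (x * x) * (a * (x * x)) * 1 := by
          rw [← ha2, ← ha1, hxi]; simp only [mul_assoc, mul_one]
          rw [show x * (x * (x * (a * (x * x)))) = a * (x * x) by
            rw [← mul_assoc, ← mul_assoc, hx3, one_mul]]
      _ = 1 := by rw [mul_one]; simpa only [mul_assoc] using e2
  have c12 : Commute a1 a2 := by
    show a1 * a2 = a2 * a1
    rw [mul_assoc] at f1 f2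
    exact (eq_inv_of_mul_eq_one_right f1).trans (eq_inv_of_mul_eq_one_right f2).symm
  have c02 : Commute a a2 := by
    have := c12.map (MulAut.conj x).toMonoidHom
    simp only [MulEquiv.coe_toMonoidHom, MulAut.conj_apply, ha2, ha0] at this
    exact this.symm
  have c01 : Commute a a1 := by
    have := c02.symm.map (MulAut.conj x).toMonoidHom
    simp only [MulEquiv.coe_toMonoidHom, MulAut.conj_apply, ha1, ha0] at this
    exact this
  exact ⟨ha0, c01, c02, c12⟩

namespace Inv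

variable {x : G} (h : SC x) [Finite G] {U : Subgroup G} (hU : Inv x U)
include h hU

theorem conj_mem {u : G} (hu : u ∈ U) : x * u * x⁻¹ ∈ U :=
  (Subgroup.mem_normalizer_iff.1 hU.1 u).1 hu

theorem eq_one_of_commute {u : G} (hu : u ∈ U) (hc : Commute u x) : u = 1 := by
  have hord : orderOf u ∣ Nat.card U := by
    rw [← Subgroup.orderOf_mk u hu]; exact orderOf_dvd_natCard _
  rcases h.cent u hc with e | e | e
  · exact e
  · rw [e, h.ord] at hord; exact absurd hord hU.2
  · rw [e, h.sq.ord] at hord; exact absurd hord hU.2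

theorem x_notMem : x ∉ U := fun hx => h.ne_one (hU.eq_one_of_commute h hx (Commute.refl x))

theorem isFPF : CfsgLib.Base.IsFPF (zpowers x) U := by
  refine ⟨zpowers_le.2 hU.1, fun a ha ha1 => (Subgroup.eq_bot_iff_forall _).2 fun u hu => ?_⟩
  refine hU.eq_one_of_commute h hu.1 ?_
  have hc : Commute u a := mem_centralizer_singleton_iff.1 hu.2
  rcases h.mem_zpowers_iff.1 ha with rfl | rfl | rfl
  · exact absurd rfl ha1
  · exact hc
  · have := hc.pow_right 2
    rwa [← pow_mul, pow_succ, h.cube, one_mul] at this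

theorem isNilpotent : Group.IsNilpotent U :=
  (hU.isFPF h).isNilpotent (zpowers_ne_bot.2 h.ne_one)

theorem three_dvd_orderOf {a : G} (ha : a ∈ U) (i : ℕ) (hi : i = 1 ∨ i = 2) :
    3 ∣ orderOf (a * x ^ i) := by
  have hN : a * x ^ i ∈ normalizer (U : Set G) :=
    mul_mem (Subgroup.le_normalizer ha) (pow_mem hU.1 i)
  let K := U.subgroupOf (normalizer (U : Set G))
  let π := QuotientGroup.mk' K
  have hne : π ⟨x, hU.1⟩ ≠ 1 := by
    rw [Ne, QuotientGroup.mk'_apply, QuotientGroup.eq_one_iff]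
    exact fun e => hU.x_notMem h e
  haveI := Fact.mk Nat.prime_three
  have h3 : orderOf (π ⟨x, hU.1⟩) = 3 := orderOf_eq_prime (by
    rw [← map_pow, show (⟨x, hU.1⟩ : normalizer (U : Set G)) ^ 3 = 1 from Subtype.ext h.cube,
      map_one]) hne
  have he : π ⟨a * x ^ i, hN⟩ = π ⟨x, hU.1⟩ ^ i := by
    have hsplit : (⟨a * x ^ i, hN⟩ : normalizer (U : Set G)) =
        ⟨a, Subgroup.le_normalizer ha⟩ * ⟨x, hU.1⟩ ^ i := rfl
    rw [hsplit, map_mul, map_pow,
      show π ⟨a, Subgroup.le_normalizer ha⟩ = 1 from (QuotientGroup.eq_one_iff _).2 ha, one_mul]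
  have h4 := orderOf_map_dvd π ⟨a * x ^ i, hN⟩
  rw [he, Subgroup.orderOf_mk] at h4
  refine dvd_trans ?_ h4
  rcases hi with rfl | rfl
  · rw [pow_one, h3]
  · rw [orderOf_pow' _ two_ne_zero, h3]; norm_num

theorem inT {a : G} (ha : a ∈ U) : InT x a := by
  refine ⟨h.orderOf_eq_three ?_, h.orderOf_eq_three (hU.three_dvd_orderOf h ha 2 (Or.inr rfl))⟩
  simpa using hU.three_dvd_orderOf h ha 1 (Or.inl rfl)

/-- Every element commutes with its conjugate. -/
theorem commute_conj {a : G} (ha : a ∈ U) : Commute a (x * a * x⁻¹) :=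
  (InT.orbit h (hU.inT h ha)).2.1

/-- The class is at most two. -/
theorem commutator_central {a b c : G} (ha : a ∈ U) (hb : b ∈ U) (hc : c ∈ U) :
    Commute (a * b * a⁻¹ * b⁻¹) c := by
  -- `σ` is conjugation by `x`
  have hcm := fun {u : G} (hu : u ∈ U) => hU.commute_conj h hu
  have hsw : ∀ u ∈ U, ∀ v ∈ U, (x * u * x⁻¹) * v * (x * u * x⁻¹)⁻¹ * v⁻¹ =
      u * (x * v * x⁻¹) * u⁻¹ * (x * v * x⁻¹)⁻¹ := by
    have key : ∀ u ∈ U, ∀ v ∈ U, (x * u⁻¹ * x⁻¹) * v * (x * u⁻¹ * x⁻¹)⁻¹ * v⁻¹ =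
        u⁻¹ * (x * v * x⁻¹) * u * (x * v * x⁻¹)⁻¹ := by
      intro u hu v hv
      have h1 : u * v * (x * (u * v) * x⁻¹) = (x * (u * v) * x⁻¹) * (u * v) :=
        hcm (mul_mem hu hv)
      have h2 : Commute u (x * u * x⁻¹) := hcm hu
      have h3 : Commute v (x * v * x⁻¹) := hcm hv
      rw [show x * (u * v) * x⁻¹ = (x * u * x⁻¹) * (x * v * x⁻¹) by group] at h1
      rw [show x * u⁻¹ * x⁻¹ = (x * u * x⁻¹)⁻¹ by group]
      generalize x * u * x⁻¹ = p at h1 h2 ⊢
      generalize x * v * x⁻¹ = w at h1 h3 ⊢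
      calc p⁻¹ * v * p⁻¹⁻¹ * v⁻¹ = u⁻¹ * (u * p⁻¹) * v * p * v⁻¹ := by group
        _ = u⁻¹ * (p⁻¹ * u) * v * p * v⁻¹ := by rw [h2.inv_right.eq]
        _ = u⁻¹ * p⁻¹ * (u * v * (p * w)) * w⁻¹ * v⁻¹ := by group
        _ = u⁻¹ * w * u * (v * w⁻¹) * v⁻¹ := by rw [h1]; group
        _ = u⁻¹ * w * u * (w⁻¹ * v) * v⁻¹ := by rw [h3.inv_right.eq]
        _ = _ := by group
    intro u hu v hv
    simpa using key u⁻¹ (inv_mem hu) v hv
  -- the map `v ↦ v⁻¹ σ v` is bijective
  let f : U → U := fun v => ⟨(v : G)⁻¹ * (x * v * x⁻¹), mul_mem (inv_mem v.2) (hU.conj_mem h v.2)⟩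
  have hinj : Function.Injective f := fun v w e => by
    have e1 : (v : G)⁻¹ * (x * v * x⁻¹) = (w : G)⁻¹ * (x * w * x⁻¹) := congrArg Subtype.val e
    have h1 : Commute ((w : G) * (v : G)⁻¹) x := by
      show (w : G) * (v : G)⁻¹ * x = x * ((w : G) * (v : G)⁻¹)
      calc (w : G) * (v : G)⁻¹ * x = (w : G) * ((v : G)⁻¹ * (x * v * x⁻¹)) * x * (v : G)⁻¹ := by group
        _ = x * ((w : G) * (v : G)⁻¹) := by rw [e1]; group
    exact Subtype.ext (mul_inv_eq_one.1
      (hU.eq_one_of_commute h (mul_mem w.2 (inv_mem v.2)) h1)).symm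
  -- the commutator is `[σ r, b]`
  obtain ⟨r, hr, rfl⟩ : ∃ r ∈ U, x * r * x⁻¹ = a :=
    ⟨x⁻¹ * a * x, by
      have := (Subgroup.mem_normalizer_iff.1 (inv_mem hU.1) a).1 ha
      simpa using this, by group⟩
  obtain ⟨⟨v, hv⟩, hfv⟩ := (Finite.injective_iff_surjective.1 hinj) ⟨c, hc⟩
  have hcv : c = v⁻¹ * (x * v * x⁻¹) := (congrArg Subtype.val hfv).symm
  have e1 := hsw r hr (v * b) (mul_mem hv hb)
  have e2 := hsw r hr v hv
  have e3 := hsw r hr b hb
  rw [show x * (v * b) * x⁻¹ = (x * v * x⁻¹) * (x * b * x⁻¹) by group] at e1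
  generalize x * r * x⁻¹ = a at e1 e2 e3 ⊢
  generalize x * b * x⁻¹ = b' at e1 e3 ⊢
  generalize x * v * x⁻¹ = v' at e1 e2 hcv ⊢
  subst hcv
  have e4 : v * (a * b * a⁻¹ * b⁻¹) * v⁻¹ = v' * (a * b * a⁻¹ * b⁻¹) * v'⁻¹ := by
    have l1 : a * (v * b) * a⁻¹ * (v * b)⁻¹ =
        (a * v * a⁻¹ * v⁻¹) * (v * (a * b * a⁻¹ * b⁻¹) * v⁻¹) := by group
    have l2 : r * (v' * b') * r⁻¹ * (v' * b')⁻¹ =
        (r * v' * r⁻¹ * v'⁻¹) * (v' * (r * b' * r⁻¹ * b'⁻¹) * v'⁻¹) := by group
    rw [l1, l2, ← e2, ← e3] at e1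
    exact mul_left_cancel e1
  show a * b * a⁻¹ * b⁻¹ * (v⁻¹ * v') = v⁻¹ * v' * (a * b * a⁻¹ * b⁻¹)
  calc a * b * a⁻¹ * b⁻¹ * (v⁻¹ * v') = v⁻¹ * (v * (a * b * a⁻¹ * b⁻¹) * v⁻¹) * v' := by group
    _ = v⁻¹ * v' * (a * b * a⁻¹ * b⁻¹) := by rw [e4]; group

end Inv

/-- An element of `InT` outside `zpowers x` lies in an invariant subgroup of order prime to three. -/
theorem exists_inv_of_inT [Finite G] {x : G} (h : SC x) {a : G} (ha : InT x a) :
    ∃ U : Subgroup G, Inv x U ∧ a ∈ U := by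
  obtain ⟨ha0, c01, c02, c12⟩ := InT.orbit h ha
  obtain ⟨h1, h2⟩ := ha
  have hx3 : x * x * x = 1 := by rw [← pow_three', h.cube]
  generalize ha1 : x * a * x⁻¹ = a1 at ha0 c01 c02 c12
  generalize ha2 : x * a1 * x⁻¹ = a2 at ha0 c02 c12
  let U := closure ({a, a1, a2} : Set G)
  haveI hcomm : IsMulCommutative U := Subgroup.isMulCommutative_closure (by
    rintro u (rfl | rfl | rfl) v (rfl | rfl | rfl) <;>
      first | rfl | exact c01.eq | exact c01.eq.symm | exact c02.eq | exact c02.eq.symm |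
        exact c12.eq | exact c12.eq.symm)
  have hxU : x ∈ normalizer (U : Set G) := by
    have hmap : U.map (MulAut.conj x).toMonoidHom ≤ U := by
      show (Subgroup.closure _).map _ ≤ _
      rw [MonoidHom.map_closure]
      refine Subgroup.closure_mono ?_
      rintro _ ⟨u, hu, rfl⟩
      rcases hu with rfl | rfl | rfl <;> simp [ha1, ha2, ha0]
    refine Subgroup.mem_normalizer_iff.2 fun u => ⟨fun hu => hmap ⟨u, hu, rfl⟩, fun hu => ?_⟩
    have h1 := hmap ⟨_, hmap ⟨_, hu, rfl⟩, rfl⟩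
    simp only [MulEquiv.coe_toMonoidHom, MulAut.conj_apply] at h1
    have h2 : x * (x * (x * u * x⁻¹) * x⁻¹) * x⁻¹ = u := by
      calc _ = (x * x * x) * u * (x * x * x)⁻¹ := by group
        _ = u := by rw [hx3]; group
    rwa [h2] at h1
  by_cases h3 : 3 ∣ Nat.card U
  · -- then `U` is `zpowers x`, forcing `a = 1`
    refine ⟨⊥, ⟨Subgroup.mem_normalizer_iff.2 fun u => by simp, by rw [Subgroup.card_bot]; norm_num⟩, ?_⟩
    rw [Subgroup.mem_bot]
    obtain ⟨g, hg⟩ := h.exists_conj_mem h3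
    have hy := h.conj g
    have hyU : ∀ u ∈ U, u ∈ zpowers (g * x * g⁻¹) := fun u hu =>
      hy.mem_zpowers_iff.2 (hy.cent u (congrArg Subtype.val
        (mul_comm' (⟨u, hu⟩ : U) ⟨_, hg⟩)))
    have hxy := hyU _ ((Subgroup.mem_normalizer_iff.1 hxU _).1 hg)
    generalize g * x * g⁻¹ = y at hy hyU hxy hg
    have hc : Commute y x := by
      rcases hy.mem_zpowers_iff.1 hxy with e | e | e
      · exact absurd (by simpa using e : y = 1) hy.ne_one
      · exact (mul_inv_eq_iff_eq_mul.1 e).symm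
      · exfalso
        refine hy.sq_ne_self ?_
        have e' : x * (x * y * x⁻¹) * x⁻¹ = y := by
          rw [e, ← conj_pow, e, ← pow_mul, pow_succ, hy.cube, one_mul]
        calc y ^ 2 = x * y * x⁻¹ := e.symm
          _ = x * (x * (x * y * x⁻¹) * x⁻¹) * x⁻¹ := by rw [e']
          _ = (x * x * x) * y * (x * x * x)⁻¹ := by group
          _ = y := by rw [hx3]; group
    have hax : Commute a x := by
      have hcy : x ∈ zpowers y := hy.mem_zpowers_iff.2 (hy.cent x hc.symm)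
      obtain ⟨i, hi⟩ := Subgroup.mem_zpowers_iff.1 hcy
      obtain ⟨j, hj⟩ := Subgroup.mem_zpowers_iff.1 (hyU a (subset_closure (by simp)))
      rw [← hi, ← hj]
      exact Commute.zpow_zpow (Commute.refl y) j i
    rcases h.cent a hax with e | e | e
    · exact e
    · rw [e, ← pow_succ', h.cube, orderOf_one] at h2; omega
    · rw [e, ← pow_succ, h.cube, orderOf_one] at h1; omega
  · exact ⟨U, ⟨hxU, h3⟩, subset_closure (by simp)⟩

end CfsgLib.CharsMore.SCOrder3
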