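import Cfsg.Agent.Lib.CharsMore.SCOrder3.Invariant
import Cfsg.Agent.Lib.Base.Nilpotent

/-!
# Classes of maximal invariant subgroups

Those of odd order, and those of index three in their normalizer, consist of Sylow subgroups, so a
class is determined by any of its primes; the invariant members of a class are few.
-/

set_option autoImplicit false
set_option linter.style.haveILetI false
set_option linter.unusedSectionVars false

open scoped Classical

namespace CfsgLib.CharsMore.SCOrder3

open Subgroup CfsgLib.Base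

variable {G : Type*} [Group G] [Finite G] {x : G}

/-- Every prime divisor of `|L|` divides `|G : L|` to the power zero. -/
def IsHallLike (L : Subgroup G) : Prop :=
  ∀ p : ℕ, p.Prime → p ∣ Nat.card L → (Nat.card L).factorization p = (Nat.card G).factorization p

/-- The centralizer of the invariant four-group of the involution `u`. -/
def centV (x u : G) : Subgroup G :=
  centralizer ({u, x * u * x⁻¹, x * (x * u * x⁻¹) * x⁻¹} : Set G)

theorem exists_prime_sylow {L : Subgroup G} {p : ℕ} [Fact p.Prime] (hp : p ∣ Nat.card L) :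
    ∃ P : Sylow p L, (P : Subgroup L) ≠ ⊥ := by
  obtain ⟨P⟩ := (inferInstance : Nonempty (Sylow p L))
  exact ⟨P, P.ne_bot_of_dvd_card hp⟩

variable (h : SC x)
include h

theorem IsMaxInv.card_normalizer {L : Subgroup G} (hL : IsMaxInv x L) (hne : L ≠ ⊥) :
    Nat.card (normalizer (L : Set G)) = Nat.card L * 3 ∨
      Nat.card (normalizer (L : Set G)) = Nat.card L * 6 := by
  obtain ⟨p, hp, hpd⟩ := Nat.exists_prime_and_dvd (fun e => hne (Subgroup.card_eq_one.1 e))
  haveI := Fact.mk hp
  obtain ⟨P, hP⟩ := exists_prime_sylow hpd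
  exact (hL.normalizer_eq h P hP).2

theorem IsMaxInv.isHallLike {L : Subgroup G} (hL : IsMaxInv x L)
    (hor : ¬ 2 ∣ Nat.card L ∨ Nat.card (normalizer (L : Set G)) = Nat.card L * 3) :
    IsHallLike L := by
  intro p hp hpd
  haveI := Fact.mk hp
  obtain ⟨P, hP⟩ := exists_prime_sylow hpd
  obtain ⟨hN, hcard⟩ := hL.normalizer_eq h P hP
  set R := (P : Subgroup L).map L.subtype with hR
  have hRcard : Nat.card R = p ^ (Nat.card L).factorization p := by
    rw [hR, Nat.card_congr (Subgroup.equivMapOfInjective _ _ L.subtype_injective).symm.toEquiv,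
      P.card_eq_multiplicity]
  have hp3 : p ≠ 3 := fun e => hL.1.2 (e ▸ hpd)
  obtain ⟨Q, hQ⟩ := (P.isPGroup'.map L.subtype).exists_le_sylow
  obtain ⟨n, hn⟩ := (Q.isPGroup'.to_le inf_le_left :
    IsPGroup p ((Q : Subgroup G) ⊓ normalizer (R : Set G) : Subgroup G)).exists_card_eq
  have hdvd : p ^ n ∣ Nat.card (normalizer (L : Set G)) := by
    rw [← hn, ← hN]; exact Subgroup.card_dvd_of_le inf_le_right
  have hdvdL : p ^ n ∣ Nat.card L := by
    rcases hcard with e | e <;> rw [e] at hdvd
    · exact (Nat.Coprime.pow_left n ((Nat.coprime_primes hp Nat.prime_three).2 hp3)).dvd_of_dvd_mul_right hdvd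
    · have hp2 : p ≠ 2 := fun e2 => by
        subst e2
        rcases hor with h2 | h2
        · exact h2 hpd
        · rw [h2] at e
          have := Nat.card_pos (α := L)
          omega
      have h6 : Nat.Coprime p 6 := by
        rw [show 6 = 2 * 3 from rfl]
        exact Nat.Coprime.mul_right ((Nat.coprime_primes hp Nat.prime_two).2 hp2)
          ((Nat.coprime_primes hp Nat.prime_three).2 hp3)
      exact (h6.pow_left n).dvd_of_dvd_mul_right hdvd
  have hle : p ^ n ≤ p ^ (Nat.card L).factorization p := Nat.pow_le_pow_right hp.pos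
    ((hp.pow_dvd_iff_le_factorization Nat.card_pos.ne').1 hdvdL)
  have hRQ : R ≤ (Q : Subgroup G) ⊓ normalizer (R : Set G) := le_inf hQ Subgroup.le_normalizer
  have heq : R = (Q : Subgroup G) ⊓ normalizer (R : Set G) :=
    Subgroup.eq_of_le_of_card_ge hRQ (by rw [hRcard, hn]; exact hle)
  have hQR : (Q : Subgroup G) ≤ R := by
    by_contra hnle
    haveI := Q.isPGroup'.isNilpotent
    have hlt : R.subgroupOf (Q : Subgroup G) < ⊤ := lt_top_iff_ne_top.2 fun e =>
      hnle (Subgroup.subgroupOf_eq_top.1 e)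
    obtain ⟨z, hz, hzR⟩ := SetLike.exists_of_lt (Group.normalizerCondition_of_isNilpotent _ hlt)
    refine hzR (Subgroup.mem_subgroupOf.2 (heq ▸ ⟨z.2, Subgroup.mem_normalizer_iff.2 fun m => ?_⟩))
    constructor
    · intro hm
      have := (Subgroup.mem_normalizer_iff.1 hz ⟨m, hQ hm⟩).1 (Subgroup.mem_subgroupOf.2 hm)
      simpa [Subgroup.mem_subgroupOf] using this
    · intro hm
      have hmQ : m ∈ (Q : Subgroup G) := by
        have := mul_mem (mul_mem (inv_mem z.2) (hQ hm)) z.2
        simpa [mul_assoc] using this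
      exact Subgroup.mem_subgroupOf.1 ((Subgroup.mem_normalizer_iff.1 hz ⟨m, hmQ⟩).2
        (Subgroup.mem_subgroupOf.2 (by simpa using hm)))
  have h1 : Nat.card (Q : Subgroup G) = Nat.card R := by rw [le_antisymm hQR hQ]
  rw [Q.card_eq_multiplicity, hRcard] at h1
  exact (Nat.pow_right_injective hp.two_le h1).symm

theorem IsMaxInv.le_of_normalizer_eq {L U : Subgroup G} (hL : IsMaxInv x L) (hU : ¬ 3 ∣ Nat.card U)
    (hN : normalizer (U : Set G) = normalizer (L : Set G)) : U ≤ L := by
  let N := normalizer (L : Set G)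
  have hUN : U ≤ N := Subgroup.le_normalizer.trans hN.le
  have hLN : L ≤ N := Subgroup.le_normalizer
  haveI : (L.subgroupOf N).Normal := (Subgroup.normal_subgroupOf_iff_le_normalizer hLN).2 le_rfl
  haveI : (U.subgroupOf N).Normal := (Subgroup.normal_subgroupOf_iff_le_normalizer hUN).2 hN.ge
  have h3 : ¬ 3 ∣ Nat.card (U.subgroupOf N ⊔ L.subgroupOf N : Subgroup N) := by
    intro hd
    have h1 := hd.trans (card_sup_dvd _ _)
    rw [Nat.card_congr (subgroupOfEquivOfLe hUN).toEquiv,
      Nat.card_congr (subgroupOfEquivOfLe hLN).toEquiv] at h1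
    exact (Nat.prime_three.dvd_mul.1 h1).elim hU hL.1.2
  have hinv : Inv x ((U.subgroupOf N ⊔ L.subgroupOf N).map N.subtype) := by
    refine ⟨?_, by rwa [Nat.card_congr (Subgroup.equivMapOfInjective _ _ N.subtype_injective).symm.toEquiv]⟩
    have hx1 : (⟨x, hL.1.1⟩ : N) ∈
        normalizer ((U.subgroupOf N ⊔ L.subgroupOf N : Subgroup N) : Set N) := by
      rw [Subgroup.normalizer_eq_top_iff.2 (Subgroup.sup_normal _ _)]
      exact Subgroup.mem_top _
    exact Subgroup.le_normalizer_map N.subtype ⟨_, hx1, rfl⟩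
  have hle := hL.2 _ hinv fun l hl => ⟨⟨l, hLN hl⟩, (le_sup_right : L.subgroupOf N ≤ _) hl, rfl⟩
  exact fun u hu => hle ⟨⟨u, hUN hu⟩, (le_sup_left : U.subgroupOf N ≤ _) hu, rfl⟩

/-- Two classes with a common prime are equal. -/
theorem IsMaxInv.exists_conj {L L' : Subgroup G} (hL : IsMaxInv x L) (hL' : IsMaxInv x L')
    (hH : IsHallLike L) (hH' : IsHallLike L') {p : ℕ} (hp : p.Prime) (hpL : p ∣ Nat.card L)
    (hpL' : p ∣ Nat.card L') : ∃ g : G, L' = L.map (MulAut.conj g).toMonoidHom := by
  haveI := Fact.mk hp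
  obtain ⟨P, hP⟩ := exists_prime_sylow hpL
  obtain ⟨P', hP'⟩ := exists_prime_sylow hpL'
  have hcard : ∀ {M : Subgroup G}, IsHallLike M → p ∣ Nat.card M → ∀ Q : Sylow p M,
      Nat.card ((Q : Subgroup M).map M.subtype) = p ^ (Nat.card G).factorization p := by
    intro M hM hpM Q
    rw [Nat.card_congr (Subgroup.equivMapOfInjective _ _ M.subtype_injective).symm.toEquiv,
      Q.card_eq_multiplicity, hM p hp hpM]
  obtain ⟨g, hg⟩ := MulAction.exists_smul_eq G (Sylow.ofCard _ (hcard hH hpL P))
    (Sylow.ofCard _ (hcard hH' hpL' P'))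
  have hR : (P' : Subgroup L').map L'.subtype =
      ((P : Subgroup L).map L.subtype).map (MulAut.conj g).toMonoidHom := by
    have := congrArg (fun Q : Sylow p G => (Q : Subgroup G)) hg
    simp only [Sylow.coe_subgroup_smul, Sylow.coe_ofCard] at this
    exact this.symm
  have hN1 := (hL.normalizer_eq h P hP).1
  have hN2 := (hL'.normalizer_eq h P' hP').1
  have hmapN : ∀ U : Subgroup G, normalizer ((U.map (MulAut.conj g).toMonoidHom : Subgroup G) : Set G) =
      (normalizer (U : Set G)).map (MulAut.conj g).toMonoidHom := fun U =>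
    (Subgroup.map_equiv_normalizer_eq U (MulAut.conj g)).symm
  have hN : normalizer (L' : Set G) =
      normalizer ((L.map (MulAut.conj g).toMonoidHom : Subgroup G) : Set G) := by
    rw [← hN2, hR, hmapN, hmapN, hN1]
  have hc : ∀ (U : Subgroup G) (φ : G ≃* G), Nat.card (U.map φ.toMonoidHom) = Nat.card U := fun U φ =>
    Nat.card_congr (Subgroup.equivMapOfInjective _ _ φ.injective).symm.toEquiv
  refine ⟨g, le_antisymm ?_ (hL'.le_of_normalizer_eq h (by rw [hc]; exact hL.1.2) hN.symm)⟩
  have hN' : normalizer ((L'.map (MulAut.conj g).symm.toMonoidHom : Subgroup G) : Set G) =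
      normalizer (L : Set G) := by
    rw [← Subgroup.map_equiv_normalizer_eq L' (MulAut.conj g).symm, hN, hmapN, Subgroup.map_map]
    convert Subgroup.map_id _
    ext y
    simp [mul_assoc]
  intro l hl
  exact ⟨(MulAut.conj g).symm l,
    hL.le_of_normalizer_eq h (by rw [hc]; exact hL'.1.2) hN' ⟨l, hl, rfl⟩,
    (MulAut.conj g).apply_symm_apply l⟩

/-- The elements of order three in the normalizer lie in two cosets. -/
theorem IsMaxInv.order_three_mem {L : Subgroup G} (hL : IsMaxInv x L) (hne : L ≠ ⊥) {y : G}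
    (hy : y ∈ normalizer (L : Set G)) (hy3 : orderOf y = 3) :
    ∃ l ∈ L, y = l * x ∨ y = l * x ^ 2 := by
  let N := normalizer (L : Set G)
  haveI : (L.subgroupOf N).Normal :=
    (Subgroup.normal_subgroupOf_iff_le_normalizer Subgroup.le_normalizer).2 le_rfl
  let π := QuotientGroup.mk' (L.subgroupOf N)
  have hQ : Nat.card (N ⧸ L.subgroupOf N) = 3 ∨ Nat.card (N ⧸ L.subgroupOf N) = 6 := by
    have e := card_mul_card_quotient (L.subgroupOf N)
    rw [Nat.card_congr (subgroupOfEquivOfLe Subgroup.le_normalizer).toEquiv] at e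
    have h0 := Nat.card_pos (α := L)
    rcases hL.card_normalizer h hne with e' | e'
    · left; rw [e'] at e; exact Nat.eq_of_mul_eq_mul_left h0 e
    · right; rw [e'] at e; exact Nat.eq_of_mul_eq_mul_left h0 e
  have hS : SC (π ⟨x, hL.1.1⟩) := (h.subgroup hL.1.1).quotient (L.subgroupOf N) (by
    rw [Nat.card_congr (subgroupOfEquivOfLe Subgroup.le_normalizer).toEquiv]; exact hL.1.2)
  have hdvd : orderOf (π ⟨y, hy⟩) ∣ 3 := by
    refine (orderOf_map_dvd π _).trans ?_
    rw [Subgroup.orderOf_mk, hy3]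
  have hmem : π ⟨y, hy⟩ ∈ zpowers (π ⟨x, hL.1.1⟩) := by
    rcases (Nat.dvd_prime Nat.prime_three).1 hdvd with e | e
    · rw [orderOf_eq_one_iff.1 e]; exact one_mem _
    · obtain ⟨q, hq⟩ := hS.exists_conj e
      have hidx : (zpowers (π ⟨x, hL.1.1⟩)).index ≤ 2 := by
        have e1 := (zpowers (π ⟨x, hL.1.1⟩)).card_mul_index
        rw [Nat.card_zpowers, hS.ord] at e1
        rcases hQ with e' | e' <;> omega
      have hn : (zpowers (π ⟨x, hL.1.1⟩)).Normal := by
        have h0 := Subgroup.index_ne_zero_of_finite (H := zpowers (π ⟨x, hL.1.1⟩))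
        rcases (show (zpowers (π ⟨x, hL.1.1⟩)).index = 1 ∨ (zpowers (π ⟨x, hL.1.1⟩)).index = 2 by omega)
          with e1 | e1
        · rw [Subgroup.index_eq_one.1 e1]; infer_instance
        · exact Subgroup.normal_of_index_eq_two e1
      rcases hq with e' | e' <;> rw [← e']
      · exact hn.conj_mem _ (mem_zpowers _) q
      · exact hn.conj_mem _ (pow_mem (mem_zpowers _) 2) q
  have key : ∀ i : ℕ, π ⟨y, hy⟩ = π ⟨x, hL.1.1⟩ ^ i → y * (x ^ i)⁻¹ ∈ L := by
    intro i e
    have e1 : π (⟨y, hy⟩ * (⟨x, hL.1.1⟩ ^ i)⁻¹) = 1 := by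
      rw [map_mul, map_inv, map_pow, e, mul_inv_cancel]
    exact Subgroup.mem_subgroupOf.1 ((QuotientGroup.eq_one_iff (N := L.subgroupOf N) _).1 e1)
  rcases hS.mem_zpowers_iff.1 hmem with e | e | e
  · exfalso
    have h1 := key 0 (by rw [e, pow_zero])
    rw [pow_zero, inv_one, mul_one] at h1
    exact hL.1.2 (hy3 ▸ (Subgroup.orderOf_mk y h1 ▸ orderOf_dvd_natCard _))
  · refine ⟨_, key 1 (by rw [e, pow_one]), Or.inl ?_⟩
    rw [pow_one, inv_mul_cancel_right]
  · exact ⟨_, key 2 e, Or.inr (inv_mul_cancel_right _ _).symm⟩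

/-- The invariant members of a class cover few elements. -/
theorem IsMaxInv.card_conjugates_le {L : Subgroup G} (hL : IsMaxInv x L) (hne : L ≠ ⊥) :
    Nat.card {a : G // a ≠ 1 ∧ ∃ g : G, g * x * g⁻¹ ∈ normalizer (L : Set G) ∧ g * a * g⁻¹ ∈ L} *
      Nat.card (normalizer (L : Set G)) ≤ 6 * Nat.card L * (Nat.card L - 1) := by
  haveI := Fintype.ofFinite G
  set N := normalizer (L : Set G) with hN
  let B := Finset.univ.filter fun g : G => g * x * g⁻¹ ∈ N
  let A := Finset.univ.filter fun a : G =>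
    a ≠ 1 ∧ ∃ g : G, g * x * g⁻¹ ∈ N ∧ g * a * g⁻¹ ∈ L
  let L1 := Finset.univ.filter fun l : G => l ∈ L ∧ l ≠ 1
  have hA : Nat.card {a : G // a ≠ 1 ∧ ∃ g : G, g * x * g⁻¹ ∈ N ∧ g * a * g⁻¹ ∈ L} = A.card := by
    rw [Nat.card_eq_fintype_card, Fintype.card_subtype]
  have hL1 : L1.card = Nat.card L - 1 := by
    have e : (Finset.univ.filter fun l : G => l ∈ L) = insert 1 L1 := by
      ext l; by_cases hl : l = 1 <;> simp [L1, hl]
    have e1 := congrArg Finset.card e
    rw [Finset.card_insert_of_notMem (by simp [L1]), ← Fintype.card_subtype,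
      ← Nat.card_eq_fintype_card] at e1
    omega
  have hB : B.card ≤ 6 * Nat.card L := by
    -- the image of `g ↦ g x g⁻¹`
    let T := ((Finset.univ.filter fun l : G => l ∈ L).image fun l => l * x) ∪
      ((Finset.univ.filter fun l : G => l ∈ L).image fun l => l * x ^ 2)
    have hT : T.card ≤ 2 * Nat.card L := by
      have hcL : (Finset.univ.filter fun l : G => l ∈ L).card = Nat.card L := by
        rw [← Fintype.card_subtype, ← Nat.card_eq_fintype_card]
      refine (Finset.card_union_le _ _).trans ?_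
      rw [two_mul]
      exact Nat.add_le_add (Finset.card_image_le.trans hcL.le) (Finset.card_image_le.trans hcL.le)
    have hmaps : ∀ g ∈ B, g * x * g⁻¹ ∈ T := fun g hg => by
      simp only [B, Finset.mem_filter] at hg
      obtain ⟨l, hl, e | e⟩ := hL.order_three_mem h hne hg.2 (h.conj g).ord
      · exact Finset.mem_union_left _ (Finset.mem_image.2 ⟨l, by simpa using hl, e.symm⟩)
      · exact Finset.mem_union_right _ (Finset.mem_image.2 ⟨l, by simpa using hl, e.symm⟩)
    have hfib : ∀ y ∈ T, (B.filter fun g => g * x * g⁻¹ = y).card ≤ 3 := fun y _ => by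
      by_cases he : (B.filter fun g => g * x * g⁻¹ = y) = ∅
      · rw [he]; simp
      · obtain ⟨g0, hg0⟩ := Finset.nonempty_iff_ne_empty.2 he
        simp only [Finset.mem_filter] at hg0
        refine (Finset.card_le_card (t := ({g0, g0 * x, g0 * x ^ 2} : Finset G)) fun g hg => ?_).trans
          Finset.card_le_three
        simp only [Finset.mem_filter] at hg
        have hc : Commute (g0⁻¹ * g) x := by
          show g0⁻¹ * g * x = x * (g0⁻¹ * g)
          calc g0⁻¹ * g * x = g0⁻¹ * (g * x * g⁻¹) * g := by group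
            _ = x * (g0⁻¹ * g) := by rw [hg.2, ← hg0.2]; group
        simp only [Finset.mem_insert, Finset.mem_singleton]
        rcases h.cent _ hc with e | e | e <;> rw [inv_mul_eq_iff_eq_mul] at e <;> simp [e]
    have := Finset.card_le_mul_card_image_of_maps_to hmaps 3 hfib
    omega
  -- pairs
  let pairs := B ×ˢ L1
  have hmaps : ∀ p ∈ pairs, p.1⁻¹ * p.2 * p.1 ∈ A := fun p hp => by
    simp only [pairs, Finset.mem_product, B, L1, Finset.mem_filter, Finset.mem_univ, true_and] at hp
    refine Finset.mem_filter.2 ⟨Finset.mem_univ _, fun e => hp.2.2 ?_, p.1, hp.1, ?_⟩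
    · rw [show p.2 = p.1 * (p.1⁻¹ * p.2 * p.1) * p.1⁻¹ by group, e]; group
    · rw [show p.1 * (p.1⁻¹ * p.2 * p.1) * p.1⁻¹ = p.2 by group]; exact hp.2.1
  have hfib : ∀ a ∈ A, Nat.card N ≤ (pairs.filter fun p => p.1⁻¹ * p.2 * p.1 = a).card := fun a ha => by
    simp only [A, Finset.mem_filter, Finset.mem_univ, true_and] at ha
    obtain ⟨ha1, g, hg, hga⟩ := ha
    rw [Nat.card_eq_fintype_card, Fintype.card_subtype]
    refine Finset.card_le_card_of_injOn (fun n => (n * g, n * (g * a * g⁻¹) * n⁻¹)) ?_ ?_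
    · intro n hn
      simp only [Finset.coe_filter, Finset.mem_univ, true_and, Set.mem_setOf_eq] at hn
      simp only [Finset.coe_filter, Set.mem_setOf_eq, pairs, Finset.mem_product, B, L1,
        Finset.mem_filter, Finset.mem_univ, true_and]
      refine ⟨⟨?_, (Subgroup.mem_normalizer_iff.1 hn _).1 hga, fun e => ha1 (by simpa using e)⟩, by group⟩
      rw [show n * g * x * (n * g)⁻¹ = n * (g * x * g⁻¹) * n⁻¹ by group]
      exact mul_mem (mul_mem hn hg) (inv_mem hn)
    · intro n _ m _ e
      exact mul_right_cancel (congrArg Prod.fst e)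
  have h1 : A.card * Nat.card N ≤ pairs.card := by
    rw [Finset.card_eq_sum_card_fiberwise hmaps, ← smul_eq_mul, ← Finset.sum_const]
    exact Finset.sum_le_sum hfib
  rw [hA]
  refine h1.trans ?_
  rw [Finset.card_product, hL1]
  exact Nat.mul_le_mul_right _ hB

theorem mem_conjugates {L L' : Subgroup G} (hL' : IsMaxInv x L') {g : G}
    (e : L' = L.map (MulAut.conj g).toMonoidHom) {a : G} (ha : a ∈ L') :
    ∃ k : G, k * x * k⁻¹ ∈ normalizer (L : Set G) ∧ k * a * k⁻¹ ∈ L := by
  refine ⟨g⁻¹, ?_, ?_⟩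
  · have hx := hL'.1.1
    rw [e, show normalizer ((L.map (MulAut.conj g).toMonoidHom : Subgroup G) : Set G) =
      (normalizer (L : Set G)).map (MulAut.conj g).toMonoidHom from
        (Subgroup.map_equiv_normalizer_eq L (MulAut.conj g)).symm] at hx
    obtain ⟨w, hw, hwx⟩ := hx
    have hwx' : g * w * g⁻¹ = x := hwx
    rwa [← hwx', show g⁻¹ * (g * w * g⁻¹) * g⁻¹⁻¹ = w by group]
  · rw [e] at ha
    obtain ⟨w, hw, rfl⟩ := ha
    show g⁻¹ * (g * w * g⁻¹) * g⁻¹⁻¹ ∈ L
    rwa [show g⁻¹ * (g * w * g⁻¹) * g⁻¹⁻¹ = w by group]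

theorem InT.conj {a : G} (ha : InT x a) : InT x (x * a * x⁻¹) := by
  obtain ⟨h1, h2⟩ := ha
  refine ⟨?_, ?_⟩
  · rw [show x * a * x⁻¹ * x = x * (a * x) * x⁻¹ by group, ← MulAut.conj_apply,
      MulEquiv.orderOf_eq, h1]
  · rw [show x * a * x⁻¹ * x ^ 2 = x * (a * x ^ 2) * x⁻¹ by group, ← MulAut.conj_apply,
      MulEquiv.orderOf_eq, h2]

omit h in
theorem conj_orbit (hx : x ^ 3 = 1) (u : G) : x * (x * (x * u * x⁻¹) * x⁻¹) * x⁻¹ = u := by
  calc x * (x * (x * u * x⁻¹) * x⁻¹) * x⁻¹ = x ^ 3 * u * (x ^ 3)⁻¹ := by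
        rw [pow_three']; simp only [mul_assoc, mul_inv_rev]
    _ = u := by rw [hx]; group

theorem centV_conj (u : G) : centV x (x * u * x⁻¹) = centV x u := by
  rw [centV, centV, conj_orbit h.cube]
  congr 1
  ext v
  simp only [Set.mem_insert_iff, Set.mem_singleton_iff]
  tauto

theorem inv_centV {u : G} (hu : orderOf u = 2) : Inv x (centV x u) := by
  refine ⟨?_, fun h3 => ?_⟩
  · have hmap : ∀ v ∈ centV x u, x * v * x⁻¹ ∈ centV x u := fun v hv => by
      rw [← centV_conj h u]
      rw [centV] at hv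
      rw [centV, conj_orbit h.cube, mem_centralizer_iff]
      intro w hw
      have hc : ∀ w0, w0 ∈ ({u, x * u * x⁻¹, x * (x * u * x⁻¹) * x⁻¹} : Set G) →
          Commute (x * w0 * x⁻¹) (x * v * x⁻¹) := fun w0 hw0 =>
        Commute.map (show Commute w0 v from Subgroup.mem_centralizer_iff.1 hv w0 hw0) (MulAut.conj x)
      simp only [Set.mem_insert_iff, Set.mem_singleton_iff] at hw
      rcases hw with e | e | e <;> rw [e]
      · exact hc u (by simp)
      · exact hc _ (by simp)
      · have := hc (x * (x * u * x⁻¹) * x⁻¹) (by simp)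
        rw [conj_orbit h.cube] at this
        exact this
    refine Subgroup.mem_normalizer_iff.2 fun v => ⟨hmap v, fun hv => ?_⟩
    have := hmap _ (hmap _ hv)
    rwa [conj_orbit h.cube] at this
  · haveI := Fact.mk Nat.prime_three
    obtain ⟨y, hy⟩ := exists_prime_orderOf_dvd_card' 3 h3
    rw [← Subgroup.orderOf_coe] at hy
    have hc : Commute u (y : G) := Subgroup.mem_centralizer_iff.1 y.2 u (by simp)
    rcases (h.sc_of_order hy).cent u hc with e | e | e
    · rw [e, orderOf_one] at hu; omega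
    · rw [e, hy] at hu; omega
    · rw [e, (h.sc_of_order hy).sq.ord] at hu; omega

theorem centV_le (u : G) : centV x u ≤ centralizer ({u} : Set G) :=
  Subgroup.centralizer_le (by simp)

/-- An even maximal invariant subgroup lies in the centralizer of an invariant four-group. -/
theorem IsMaxInv.exists_centV {L : Subgroup G} (hL : IsMaxInv x L) (h2 : 2 ∣ Nat.card L) :
    ∃ u ∈ L, orderOf u = 2 ∧ InT x u ∧ L ≤ centV x u := by
  haveI := hL.1.isNilpotent h
  haveI := Fact.mk Nat.prime_two
  obtain ⟨P, hP⟩ := exists_prime_sylow h2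
  haveI : (P : Subgroup L).Normal :=
    P.normal_of_normalizerCondition Group.normalizerCondition_of_isNilpotent
  have hne := inf_center_ne_bot_of_isNilpotent (G := L) (N := (P : Subgroup L)) hP
  obtain ⟨⟨z, hz⟩, hz1⟩ := Subgroup.ne_bot_iff_exists_ne_one.1 hne
  have hzne : z ≠ 1 := fun e => hz1 (Subtype.ext e)
  obtain ⟨n, hn⟩ := IsPGroup.iff_orderOf.1 P.isPGroup' ⟨z, hz.1⟩
  rw [Subgroup.orderOf_mk] at hn
  have hn0 : n ≠ 0 := fun e => hzne (orderOf_eq_one_iff.1 (by rw [hn, e, pow_zero]))
  let u : L := z ^ 2 ^ (n - 1)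
  have hu : orderOf u = 2 := by
    show orderOf (z ^ 2 ^ (n - 1)) = 2
    rw [orderOf_pow' _ (by positivity), hn, Nat.gcd_eq_right (pow_dvd_pow 2 (Nat.sub_le n 1)),
      Nat.pow_div (Nat.sub_le n 1) two_pos, show n - (n - 1) = 1 by omega, pow_one]
  have huc : ∀ l : L, Commute (u : G) l := fun l => by
    have : Commute u l := Commute.pow_left (Subgroup.mem_center_iff.1 hz.2 l).symm _
    exact this.map L.subtype
  refine ⟨u, u.2, by rw [Subgroup.orderOf_coe, hu], hL.1.inT h u.2, fun l hl => ?_⟩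
  rw [centV, mem_centralizer_iff]
  have hconj : ∀ w : G, (∀ l ∈ L, Commute w l) → ∀ l ∈ L, Commute (x * w * x⁻¹) l := fun w hw l hl => by
    have hl' : x⁻¹ * l * x ∈ L := by
      have := (Subgroup.mem_normalizer_iff.1 (inv_mem hL.1.1) l).1 hl
      simpa using this
    have := (hw _ hl').map (MulAut.conj x).toMonoidHom
    simpa [mul_assoc] using this
  have h0 : ∀ l ∈ L, Commute (u : G) l := fun l hl => huc ⟨l, hl⟩
  intro w hw
  simp only [Set.mem_insert_iff, Set.mem_singleton_iff] at hw
  rcases hw with rfl | rfl | rfl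
  exacts [h0 l hl, hconj _ h0 l hl, hconj _ (hconj _ h0) l hl]

/-- The elements centralising one of the given four-groups. -/
theorem card_covered_le (J : G → Prop) (hJ : ∀ u, J u → orderOf u = 2)
    (hJc : ∀ u, J u → J (x * u * x⁻¹)) (c : ℕ) (hc : ∀ u, J u → 2 * Nat.card (centV x u) ≤ c) :
    6 * Nat.card {a : G // a ≠ 1 ∧ ∃ u, J u ∧ a ∈ centV x u} ≤ Nat.card {u : G // J u} * (c - 2) := by
  haveI := Fintype.ofFinite G
  let JF := Finset.univ.filter J
  let A := Finset.univ.filter fun a : G => a ≠ 1 ∧ ∃ u, J u ∧ a ∈ centV x u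
  let pairs := (JF ×ˢ (Finset.univ : Finset G)).filter fun p => p.2 ≠ 1 ∧ p.2 ∈ centV x p.1
  have hmaps : ∀ p ∈ pairs, p.2 ∈ A := fun p hp => by
    simp only [pairs, Finset.mem_filter, Finset.mem_product, JF, Finset.mem_univ, true_and, and_true] at hp
    exact Finset.mem_filter.2 ⟨Finset.mem_univ _, hp.2.1, p.1, hp.1, hp.2.2⟩
  have hfib : ∀ a ∈ A, 3 ≤ (pairs.filter fun p => p.2 = a).card := fun a ha => by
    simp only [A, Finset.mem_filter, Finset.mem_univ, true_and] at ha
    obtain ⟨ha1, u, hu, hau⟩ := ha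
    have hu2 := hJ u hu
    have hne : x * u * x⁻¹ ≠ u := fun e => by
      rcases h.cent u (mul_inv_eq_iff_eq_mul.1 e).symm with e' | e' | e'
      · rw [e', orderOf_one] at hu2; omega
      · rw [e', h.ord] at hu2; omega
      · rw [e', h.sq.ord] at hu2; omega
    have hne2 : x * (x * u * x⁻¹) * x⁻¹ ≠ x * u * x⁻¹ := fun e =>
      hne (mul_left_cancel (mul_right_cancel e))
    have hne3 : x * (x * u * x⁻¹) * x⁻¹ ≠ u := fun e => hne (by
      have := conj_orbit h.cube u
      rw [e] at this
      exact this)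
    have hcard : ({u, x * u * x⁻¹, x * (x * u * x⁻¹) * x⁻¹} : Finset G).card = 3 := by
      rw [Finset.card_insert_of_notMem (by simp [hne.symm, hne3.symm]),
        Finset.card_pair hne2.symm]
    rw [← hcard]
    refine Finset.card_le_card_of_injOn (fun w => (w, a)) (fun w hw => ?_) (fun w _ v _ e =>
      congrArg Prod.fst e)
    simp only [Finset.coe_filter, Set.mem_setOf_eq, pairs, Finset.mem_filter, Finset.mem_product, JF,
      Finset.mem_univ, true_and, and_true]
    simp only [Finset.coe_insert, Finset.coe_singleton, Set.mem_insert_iff, Set.mem_singleton_iff] at hw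
    rcases hw with rfl | rfl | rfl
    · exact ⟨hu, ha1, hau⟩
    · exact ⟨hJc _ hu, ha1, by rw [centV_conj h]; exact hau⟩
    · exact ⟨hJc _ (hJc _ hu), ha1, by rw [centV_conj h, centV_conj h]; exact hau⟩
  have h1 : A.card * 3 ≤ pairs.card := by
    rw [Finset.card_eq_sum_card_fiberwise hmaps, ← smul_eq_mul, ← Finset.sum_const]
    exact Finset.sum_le_sum hfib
  have h2 : 2 * pairs.card ≤ JF.card * (c - 2) := by
    rw [Finset.card_eq_sum_card_fiberwise (f := Prod.fst) (t := JF) (fun p hp =>
        (Finset.mem_product.1 (Finset.mem_filter.1 hp).1).1),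
      Finset.mul_sum, ← smul_eq_mul JF.card, ← Finset.sum_const]
    refine Finset.sum_le_sum fun u hu => ?_
    have hu' : J u := (Finset.mem_filter.1 hu).2
    have hle : (pairs.filter fun p => p.1 = u).card ≤ Nat.card (centV x u) - 1 := by
      have e : (Finset.univ.filter fun v : G => v ∈ centV x u ∧ v ≠ 1).card = Nat.card (centV x u) - 1 := by
        have e0 : (Finset.univ.filter fun v : G => v ∈ centV x u) =
            insert 1 (Finset.univ.filter fun v : G => v ∈ centV x u ∧ v ≠ 1) := by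
          ext v; by_cases hv : v = 1 <;> simp [hv]
        have e1 := congrArg Finset.card e0
        rw [Finset.card_insert_of_notMem (by simp), ← Fintype.card_subtype,
          ← Nat.card_eq_fintype_card] at e1
        omega
      rw [← e]
      refine Finset.card_le_card_of_injOn Prod.snd (fun p hp => ?_) (fun p hp q hq e => ?_)
      · simp only [Finset.coe_filter, Set.mem_setOf_eq, pairs, Finset.mem_filter] at hp
        simp only [Finset.coe_filter, Set.mem_setOf_eq, Finset.mem_univ, true_and]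
        exact ⟨hp.2 ▸ hp.1.2.2, hp.1.2.1⟩
      · simp only [Finset.coe_filter, Set.mem_setOf_eq] at hp hq
        exact Prod.ext (hp.2.trans hq.2.symm) e
    have := hc u hu'
    have h0 := Nat.card_pos (α := centV x u)
    show 2 * (pairs.filter fun p => p.1 = u).card ≤ c - 2
    omega
  rw [Nat.card_eq_fintype_card, Nat.card_eq_fintype_card, Fintype.card_subtype, Fintype.card_subtype]
  show 6 * A.card ≤ JF.card * (c - 2)
  omega

end CfsgLib.CharsMore.SCOrder3
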