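import Cfsg.Agent.Lib.CharsMore.SCOrder3.Basic
import Cfsg.Agent.Lib.CharApps.Basic
import Cfsg.Agent.Lib.CharApps.ClassCount
import Cfsg.Agent.Lib.CharApps.SchurBound
import Cfsg.Agent.Lib.Small.SelfCentralPrime
import Cfsg.Agent.Lib.Small.Basic

/-!
# Self-centralizing elements of order three in simple groups: the three structure constant equations

The principal block consists of `1` and characters of degree `A`, `A + 1`; with `s` the value at an
involution of the first one, the numbers of elements in invariant subgroups of order prime to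
three, of involutions there, and the group order are determined by `A`, `s` and `|C(t)|`.
-/

set_option autoImplicit false
set_option linter.style.haveILetI false
set_option linter.unusedSectionVars false

open scoped Classical

namespace CfsgLib.CharsMore.SCOrder3

open Cfsg CfsgLib.Chars CfsgLib.CharApps Subgroup
open scoped ComplexConjugate

variable {G : Type*} [Group G] [Fintype G]

/-- The numerical data of a simple group with a self-centralizing element of order three. -/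
structure Counts (x : G) where
  t : G
  A : ℕ
  s : ℤ
  ht : orderOf t = 2
  inv : t * x * t⁻¹ = x⁻¹
  isConj_t : ∀ u : G, orderOf u = 2 → IsConj t u
  A_mod : A % 3 = 1
  four_le : 4 ≤ A
  s_lower : -(((A : ℤ) + 2) / 3) ≤ s
  s_upper : 3 * s ≤ (A : ℤ) - 4
  parity : 2 ∣ ((A : ℤ) + 2) / 3 - s
  card_T : 9 * (Nat.card {a : G // InT x a} : ℤ) * (A * (A + 1)) = Nat.card G * (A * A + A + 1)
  card_J : 3 * (Nat.card (centralizer ({t} : Set G)) : ℤ) * Nat.card {a : G // InT x a ∧ orderOf a = 2} *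
      (A * (A + 1)) = Nat.card G * (A * A + 2 * A + 2 * A * s + s)
  card_G : 3 * (Nat.card (centralizer ({t} : Set G)) : ℤ) ^ 2 * (A * (A + 1)) =
      Nat.card G * ((A : ℤ) - s) ^ 2
  χ : IrrCharacter G
  χ' : IrrCharacter G
  deg_χ : (χ : G → ℂ) 1 = A
  χ_x : (χ : G → ℂ) x = 1
  χ'_x : (χ' : G → ℂ) x = -1
  χ_t : (χ : G → ℂ) t = s
  χ'_t : (χ' : G → ℂ) t = 1 + s
  others : ∀ θ : IrrCharacter G, θ ≠ principal G → θ ≠ χ → θ ≠ χ' → (θ : G → ℂ) x = 0
  ne : χ ≠ principal G ∧ χ' ≠ principal G ∧ χ ≠ χ'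

variable {x : G} (h : SC x)
include h

theorem SC.exists_inverting [IsSimpleGroup G] (hG : ¬ IsMulCommutative G) :
    ∃ t : G, orderOf t = 2 ∧ t * x * t⁻¹ = x⁻¹ := by
  haveI := Fact.mk Nat.prime_three
  have hp : IsPGroup 3 (zpowers x) :=
    IsPGroup.of_card (n := 1) (by rw [Nat.card_zpowers, h.ord, pow_one])
  obtain ⟨P, hP⟩ := hp.exists_le_sylow
  have hPeq : (P : Subgroup G) = zpowers x := by
    refine (Subgroup.eq_of_le_of_card_ge hP ?_).symm
    rw [Nat.card_zpowers, h.ord]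
    obtain ⟨n, hn⟩ := P.isPGroup'.exists_card_eq
    have h9 : ¬ 9 ∣ Nat.card (P : Subgroup G) := fun e =>
      h.not_nine_dvd (e.trans (card_subgroup_dvd_card _))
    rw [hn] at h9 ⊢
    rcases n with _ | _ | n
    · norm_num
    · norm_num
    · exact absurd (dvd_mul_of_dvd_right (dvd_refl _) _)
        (by rwa [show 3 ^ (n + 1 + 1) = 3 ^ n * 9 by ring] at h9)
  have hnot := Small.not_normalizer_le_centralizer hG h.three_dvd_card P
  rw [hPeq] at hnot
  obtain ⟨g, hg, hgc⟩ := SetLike.not_le_iff_exists.1 hnot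
  have h1 := (Subgroup.mem_normalizer_iff.1 hg x).1 (mem_zpowers x)
  have hgx : g * x * g⁻¹ = x⁻¹ := by
    rcases h.mem_zpowers_iff.1 h1 with e | e | e
    · exact absurd (by simpa using e) h.ne_one
    · refine absurd (mem_centralizer_iff.2 fun y hy => ?_) hgc
      obtain ⟨i, rfl⟩ := Subgroup.mem_zpowers_iff.1 hy
      have hc : Commute g x := mul_inv_eq_iff_eq_mul.1 e
      exact (hc.symm.zpow_left i).eq
    · rw [e, h.sq_eq_inv]
  have h2 : Commute (g ^ 2) x := by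
    show g ^ 2 * x = x * g ^ 2
    refine mul_inv_eq_iff_eq_mul.1 ?_
    calc g ^ 2 * x * (g ^ 2)⁻¹ = g * (g * x * g⁻¹) * g⁻¹ := by
          rw [_root_.sq, mul_inv_rev]; simp only [mul_assoc]
      _ = g * x⁻¹ * g⁻¹ := by rw [hgx]
      _ = (g * x * g⁻¹)⁻¹ := conj_inv.symm
      _ = x := by rw [hgx, inv_inv]
  have h3 : g ^ 2 = 1 := by
    by_contra hne
    have hc : Commute (g ^ 2) g := Commute.pow_self g 2
    rcases h.cent _ h2 with e | e | e
    · exact hne e
    · rw [e] at hc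
      rw [← hc.eq, mul_inv_cancel_right, ← h.sq_eq_inv] at hgx
      exact h.sq_ne_self hgx.symm
    · rw [e] at hc
      have hx : (x ^ 2) ^ 2 = x := by rw [← pow_mul, pow_succ, h.cube, one_mul]
      have hc2 := hc.pow_left 2
      rw [hx] at hc2
      rw [← hc2.eq, mul_inv_cancel_right, ← h.sq_eq_inv] at hgx
      exact h.sq_ne_self hgx.symm
  have hg1 : g ≠ 1 := fun e => by
    rw [e, one_mul, inv_one, mul_one, ← h.sq_eq_inv] at hgx
    exact h.sq_ne_self hgx.symm
  haveI := Fact.mk Nat.prime_two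
  exact ⟨g, orderOf_eq_prime h3 hg1, hgx⟩

theorem SC.isConj_x [IsSimpleGroup G] (hG : ¬ IsMulCommutative G) {y : G} (hy : orderOf y = 3) :
    IsConj x y := by
  obtain ⟨t, -, hinv⟩ := h.exists_inverting hG
  obtain ⟨g, e | e⟩ := h.exists_conj hy
  · exact isConj_iff.2 ⟨g, e⟩
  · refine IsConj.trans (isConj_iff.2 ⟨t, hinv⟩) (isConj_iff.2 ⟨g, ?_⟩)
    rw [← h.sq_eq_inv]; exact e

omit h in
/-- A function into `α` with all fibres of size `n`. -/
theorem card_eq_mul_of_fibres {α β : Type*} [Finite α] [Finite β] (f : α → β) (n : ℕ)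
    (hf : ∀ b, Nat.card {a : α // f a = b} = n) : Nat.card α = n * Nat.card β := by
  haveI := Fintype.ofFinite β
  rw [← Nat.card_congr (Equiv.sigmaFiberEquiv f), Nat.card_sigma,
    Finset.sum_congr rfl fun b _ => hf b, Finset.sum_const, Finset.card_univ, smul_eq_mul,
    Nat.card_eq_fintype_card, mul_comm]

omit h in
theorem card_conj_fibre (a b g0 : G) (h0 : g0 * a * g0⁻¹ = b) :
    Nat.card {g : G // g * a * g⁻¹ = b} = Nat.card (centralizer ({a} : Set G)) := by
  refine Nat.card_congr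
    { toFun := fun g => ⟨g0⁻¹ * g.1, mem_centralizer_singleton_iff.2 ?_⟩
      invFun := fun k => ⟨g0 * k.1, ?_⟩
      left_inv := fun g => Subtype.ext (mul_inv_cancel_left _ _)
      right_inv := fun k => Subtype.ext (inv_mul_cancel_left _ _) }
  · calc g0⁻¹ * g.1 * a = g0⁻¹ * (g.1 * a * g.1⁻¹) * g.1 := by group
      _ = a * (g0⁻¹ * g.1) := by
        rw [show g.1 * a * g.1⁻¹ = g0 * a * g0⁻¹ from g.2.trans h0.symm]; group
  · calc g0 * (k : G) * a * (g0 * (k : G))⁻¹ = g0 * ((k : G) * a) * (k : G)⁻¹ * g0⁻¹ := by group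
      _ = b := by rw [mem_centralizer_singleton_iff.1 k.2, ← h0]; group

theorem SC.card_pairs_T [IsSimpleGroup G] (hG : ¬ IsMulCommutative G) :
    Nat.card {gh : G × G // gh.1 * x * gh.1⁻¹ * (gh.2 * x * gh.2⁻¹) = x} =
      9 * Nat.card {a : G // InT x a} := by
  have key : ∀ gh : {gh : G × G // gh.1 * x * gh.1⁻¹ * (gh.2 * x * gh.2⁻¹) = x},
      InT x (gh.1.1 * x * gh.1.1⁻¹ * x) := by
    rintro ⟨⟨g, k⟩, e⟩
    simp only at e ⊢
    refine ⟨?_, ?_⟩
    · have hk : k * x * k⁻¹ = (g * x * g⁻¹)⁻¹ * x := eq_inv_mul_of_mul_eq e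
      have e2 : g * x * g⁻¹ * x * x = x * ((k * x * k⁻¹)⁻¹) ^ 1 * x⁻¹ * (x ^ 3) := by
        rw [hk, pow_one, h.cube, mul_one, mul_assoc _ x x, ← _root_.sq, h.sq_eq_inv]; group
      rw [e2, h.cube, mul_one, pow_one, ← MulAut.conj_apply, MulEquiv.orderOf_eq, orderOf_inv,
        ← MulAut.conj_apply, MulEquiv.orderOf_eq, h.ord]
    · rw [mul_assoc _ x, ← pow_succ', h.cube, mul_one, ← MulAut.conj_apply, MulEquiv.orderOf_eq,
        h.ord]
  refine card_eq_mul_of_fibres (fun gh => (⟨_, key gh⟩ : {a : G // InT x a})) 9 ?_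
  rintro ⟨a, ha1, ha2⟩
  obtain ⟨g0, hg0⟩ := isConj_iff.1 (h.isConj_x hG (y := a * x ^ 2) ha2)
  have hq : orderOf ((a * x ^ 2)⁻¹ * x) = 3 := by
    rw [show (a * x ^ 2)⁻¹ * x = x⁻¹ * (a * x)⁻¹ * x⁻¹⁻¹ by
      rw [_root_.sq, mul_inv_rev, mul_inv_rev, mul_inv_rev, inv_inv]; simp only [mul_assoc] ]
    rw [← MulAut.conj_apply, MulEquiv.orderOf_eq, orderOf_inv, ha1]
  obtain ⟨k0, hk0⟩ := isConj_iff.1 (h.isConj_x hG hq)
  rw [show 9 = Nat.card {g : G // g * x * g⁻¹ = a * x ^ 2} *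
      Nat.card {k : G // k * x * k⁻¹ = (a * x ^ 2)⁻¹ * x} by
    rw [card_conj_fibre x _ g0 hg0, card_conj_fibre x _ k0 hk0, h.card_centralizer],
    ← Nat.card_prod]
  refine Nat.card_congr
    { toFun := fun z => (⟨z.1.1.1, ?_⟩, ⟨z.1.1.2, ?_⟩)
      invFun := fun p => ⟨⟨(p.1.1, p.2.1), ?_⟩, ?_⟩
      left_inv := fun z => rfl
      right_inv := fun p => rfl }
  · have e : z.1.1.1 * x * z.1.1.1⁻¹ * x = a := congrArg Subtype.val z.2
    calc z.1.1.1 * x * z.1.1.1⁻¹ = z.1.1.1 * x * z.1.1.1⁻¹ * x * x ^ 2 := by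
          rw [mul_assoc (z.1.1.1 * x * z.1.1.1⁻¹) x, ← pow_succ', h.cube, mul_one]
      _ = a * x ^ 2 := by rw [e]
  · have e : z.1.1.1 * x * z.1.1.1⁻¹ * x = a := congrArg Subtype.val z.2
    have e' : z.1.1.1 * x * z.1.1.1⁻¹ = a * x ^ 2 := by
      calc z.1.1.1 * x * z.1.1.1⁻¹ = z.1.1.1 * x * z.1.1.1⁻¹ * x * x ^ 2 := by
            rw [mul_assoc (z.1.1.1 * x * z.1.1.1⁻¹) x, ← pow_succ', h.cube, mul_one]
        _ = a * x ^ 2 := by rw [e]
    calc z.1.1.2 * x * z.1.1.2⁻¹ = (z.1.1.1 * x * z.1.1.1⁻¹)⁻¹ * x := eq_inv_mul_of_mul_eq z.1.2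
      _ = (a * x ^ 2)⁻¹ * x := by rw [e']
  · show p.1.1 * x * p.1.1⁻¹ * (p.2.1 * x * p.2.1⁻¹) = x
    rw [p.1.2, p.2.2, mul_inv_cancel_left]
  · refine Subtype.ext ?_
    show p.1.1 * x * p.1.1⁻¹ * x = a
    rw [p.1.2, mul_assoc, ← pow_succ, h.cube, mul_one]

theorem SC.card_pairs_J [IsSimpleGroup G] (hG : ¬ IsMulCommutative G) {t : G} (ht : orderOf t = 2)
    (hconj : ∀ u : G, orderOf u = 2 → IsConj t u) :
    Nat.card {gh : G × G // gh.1 * t * gh.1⁻¹ * (gh.2 * x * gh.2⁻¹) = x} =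
      3 * Nat.card (centralizer ({t} : Set G)) * Nat.card {a : G // InT x a ∧ orderOf a = 2} := by
  have hsymm : ∀ u : G, u * u = 1 → orderOf (u * x ^ 2) = orderOf (u * x) := fun u hu => by
    have e1 : u * x ^ 2 = u * (u * x)⁻¹ * u⁻¹ := by
      rw [mul_inv_rev, inv_eq_of_mul_eq_one_right hu, h.sq_eq_inv]
      simp only [mul_assoc]; rw [hu, mul_one]
    rw [e1, ← MulAut.conj_apply, MulEquiv.orderOf_eq, orderOf_inv]
  have hinvol : ∀ g : G, g * t * g⁻¹ * (g * t * g⁻¹) = 1 := fun g => by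
    rw [show g * t * g⁻¹ * (g * t * g⁻¹) = g * (t * t) * g⁻¹ by group, ← _root_.sq, ← ht,
      pow_orderOf_eq_one]; group
  have key : ∀ gh : {gh : G × G // gh.1 * t * gh.1⁻¹ * (gh.2 * x * gh.2⁻¹) = x},
      InT x (gh.1.1 * t * gh.1.1⁻¹) ∧ orderOf (gh.1.1 * t * gh.1.1⁻¹) = 2 := by
    rintro ⟨⟨g, k⟩, e⟩
    simp only at e ⊢
    have hk : k * x * k⁻¹ = (g * t * g⁻¹) * x := by
      rw [eq_inv_mul_of_mul_eq e, inv_eq_of_mul_eq_one_right (hinvol g)]
    have h1 : orderOf (g * t * g⁻¹ * x) = 3 := by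
      rw [← hk, ← MulAut.conj_apply, MulEquiv.orderOf_eq, h.ord]
    exact ⟨⟨h1, by rw [hsymm _ (hinvol g), h1]⟩, by rw [← MulAut.conj_apply, MulEquiv.orderOf_eq, ht]⟩
  refine card_eq_mul_of_fibres (fun gh => (⟨_, key gh⟩ : {a : G // InT x a ∧ orderOf a = 2}))
    (3 * Nat.card (centralizer ({t} : Set G))) ?_
  rintro ⟨a, ⟨ha1, -⟩, ha⟩
  have haa : a * a = 1 := by rw [← _root_.sq, ← ha, pow_orderOf_eq_one]
  obtain ⟨g0, hg0⟩ := isConj_iff.1 (hconj a ha)
  obtain ⟨k0, hk0⟩ := isConj_iff.1 (h.isConj_x hG ha1)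
  rw [show 3 * Nat.card (centralizer ({t} : Set G)) = Nat.card {g : G // g * t * g⁻¹ = a} *
      Nat.card {k : G // k * x * k⁻¹ = a * x} by
    rw [card_conj_fibre t _ g0 hg0, card_conj_fibre x _ k0 hk0, h.card_centralizer, mul_comm],
    ← Nat.card_prod]
  refine Nat.card_congr
    { toFun := fun z => (⟨z.1.1.1, ?_⟩, ⟨z.1.1.2, ?_⟩)
      invFun := fun p => ⟨⟨(p.1.1, p.2.1), ?_⟩, ?_⟩
      left_inv := fun z => rfl
      right_inv := fun p => rfl }
  · exact congrArg Subtype.val z.2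
  · have e : z.1.1.1 * t * z.1.1.1⁻¹ = a := congrArg Subtype.val z.2
    calc z.1.1.2 * x * z.1.1.2⁻¹ = (z.1.1.1 * t * z.1.1.1⁻¹)⁻¹ * x := eq_inv_mul_of_mul_eq z.1.2
      _ = a * x := by rw [inv_eq_of_mul_eq_one_right (hinvol _), e]
  · show p.1.1 * t * p.1.1⁻¹ * (p.2.1 * x * p.2.1⁻¹) = x
    rw [p.1.2, p.2.2, ← mul_assoc, haa, one_mul]
  · exact Subtype.ext p.1.2

theorem SC.conj_mul {t : G} (hinv : t * x * t⁻¹ = x⁻¹) {v : G} (hv : v ∈ zpowers x) :
    v * t * v⁻¹ = v ^ 2 * t := by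
  obtain ⟨i, rfl⟩ := Subgroup.mem_zpowers_iff.1 hv
  have h1 : t * (x ^ i)⁻¹ * t⁻¹ = x ^ i := by
    rw [← conj_inv, ← conj_zpow, hinv, inv_zpow, inv_inv]
  calc x ^ i * t * (x ^ i)⁻¹ = x ^ i * (t * (x ^ i)⁻¹ * t⁻¹) * t := by group
    _ = (x ^ i) ^ 2 * t := by rw [h1, _root_.sq]

theorem SC.card_pairs_t {t : G} (ht : orderOf t = 2) (hinv : t * x * t⁻¹ = x⁻¹) :
    Nat.card {gh : G × G // gh.1 * t * gh.1⁻¹ * (gh.2 * t * gh.2⁻¹) = x} =
      3 * Nat.card (centralizer ({t} : Set G)) ^ 2 := by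
  have htt : t * t = 1 := by rw [← _root_.sq, ← ht, pow_orderOf_eq_one]
  have hti := inv_eq_of_mul_eq_one_right htt
  have hinvol : ∀ g : G, g * t * g⁻¹ * (g * t * g⁻¹) = 1 := fun g => by
    rw [show g * t * g⁻¹ * (g * t * g⁻¹) = g * (t * t) * g⁻¹ by group, htt]; group
  have key : ∀ gh : {gh : G × G // gh.1 * t * gh.1⁻¹ * (gh.2 * t * gh.2⁻¹) = x},
      gh.1.1 * t * gh.1.1⁻¹ * t ∈ zpowers x := by
    rintro ⟨⟨g, k⟩, e⟩
    simp only at e ⊢
    have hu := hinvol g
    have hv := hinvol k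
    generalize g * t * g⁻¹ = u at e hu ⊢
    generalize k * t * k⁻¹ = v at e hv
    have h1 : u * x * u⁻¹ = x⁻¹ := by
      rw [← e, mul_inv_rev, inv_eq_of_mul_eq_one_right hu, inv_eq_of_mul_eq_one_right hv,
        ← mul_assoc, hu, one_mul]
    refine h.mem_zpowers_iff.2 (h.cent _ ?_)
    show u * t * x = x * (u * t)
    refine mul_inv_eq_iff_eq_mul.1 ?_
    calc u * t * x * (u * t)⁻¹ = u * (t * x * t⁻¹) * u⁻¹ := by group
      _ = (u * x * u⁻¹)⁻¹ := by rw [hinv, ← conj_inv]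
      _ = x := by rw [h1, inv_inv]
  rw [mul_comm, card_eq_mul_of_fibres (fun gh => (⟨_, key gh⟩ : zpowers x))
    (Nat.card (centralizer ({t} : Set G)) ^ 2) ?_, Nat.card_zpowers, h.ord]
  rintro ⟨r, hr⟩
  have hsq : ∀ v : G, v ∈ zpowers x → (v ^ 2) * t * (v ^ 2)⁻¹ = v * t := fun v hv => by
    rw [h.conj_mul hinv (pow_mem hv 2)]
    rcases h.mem_zpowers_iff.1 hv with rfl | rfl | rfl
    · simp
    · rw [← pow_mul, pow_succ _ 3, h.cube, one_mul]
    · rw [← pow_mul, ← pow_mul, show 2 * (2 * 2) = 3 * 2 + 2 from rfl, pow_add, pow_mul, h.cube,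
        one_pow, one_mul]
  have hrx : r * x⁻¹ ∈ zpowers x := mul_mem hr (inv_mem (mem_zpowers x))
  have hprod : r * t * (r * x⁻¹ * t) = x := by
    have h1 : t * (r * x⁻¹) * t⁻¹ = (r * x⁻¹)⁻¹ := by
      obtain ⟨i, hi⟩ := Subgroup.mem_zpowers_iff.1 hrx
      rw [← hi, ← conj_zpow, hinv, inv_zpow]
    rw [hti] at h1
    calc r * t * (r * x⁻¹ * t) = r * (t * (r * x⁻¹) * t) := by group
      _ = r * (x * r⁻¹) := by rw [h1]; group
      _ = x := by
        obtain ⟨i, hi⟩ := Subgroup.mem_zpowers_iff.1 hr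
        rw [← hi]; group
  rw [_root_.sq, show Nat.card (centralizer ({t} : Set G)) * Nat.card (centralizer ({t} : Set G)) =
      Nat.card {g : G // g * t * g⁻¹ = r * t} * Nat.card {k : G // k * t * k⁻¹ = r * x⁻¹ * t} by
    rw [card_conj_fibre t _ _ (hsq r hr), card_conj_fibre t _ _ (hsq _ hrx)], ← Nat.card_prod]
  refine Nat.card_congr
    { toFun := fun z => (⟨z.1.1.1, ?_⟩, ⟨z.1.1.2, ?_⟩)
      invFun := fun p => ⟨⟨(p.1.1, p.2.1), ?_⟩, ?_⟩
      left_inv := fun z => rfl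
      right_inv := fun p => rfl }
  · have e : z.1.1.1 * t * z.1.1.1⁻¹ * t = r := congrArg Subtype.val z.2
    calc z.1.1.1 * t * z.1.1.1⁻¹ = z.1.1.1 * t * z.1.1.1⁻¹ * t * t := by
          rw [mul_assoc _ t t, htt, mul_one]
      _ = r * t := by rw [e]
  · have e : z.1.1.1 * t * z.1.1.1⁻¹ * t = r := congrArg Subtype.val z.2
    have hz : z.1.1.1 * t * z.1.1.1⁻¹ = r * t := by
      calc z.1.1.1 * t * z.1.1.1⁻¹ = z.1.1.1 * t * z.1.1.1⁻¹ * t * t := by
            rw [mul_assoc _ t t, htt, mul_one]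
        _ = r * t := by rw [e]
    have := z.1.2
    rw [hz] at this
    exact mul_left_cancel (this.trans hprod.symm)
  · show p.1.1 * t * p.1.1⁻¹ * (p.2.1 * t * p.2.1⁻¹) = x
    rw [p.1.2, p.2.2, hprod]
  · refine Subtype.ext ?_
    show p.1.1 * t * p.1.1⁻¹ * t = r
    rw [p.1.2, mul_assoc, htt, mul_one]

section Values

variable {t : G} (ht : orderOf t = 2) (hinv : t * x * t⁻¹ = x⁻¹)
include ht hinv

theorem SC.exists_int (χ : IrrCharacter G) :
    ∃ z : ℤ, (χ : G → ℂ) x = z ∧ 3 ∣ (charDegree (χ : G → ℂ) : ℤ) - z := by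
  haveI := Fact.mk Nat.prime_three
  obtain ⟨a, -, ha⟩ := SchurBound.exists_sum_pow (isCharacter_of_irr χ.2) (deg_eq χ) x
  rw [h.ord, Finset.sum_range_succ, Finset.sum_range_succ, Finset.sum_range_one, pow_zero, pow_one,
    h.sq_eq_inv, ← hinv, isClassFunction_irr χ x t, deg_eq χ] at ha
  have hq : ∃ q : ℚ, (q : ℂ) = (χ : G → ℂ) x :=
    ⟨(3 * (a : ℚ) - (charDegree (χ : G → ℂ) : ℚ)) / 2, by
      push_cast; push_cast at ha; linear_combination -ha / 2⟩
  obtain ⟨z, hz⟩ := exists_int_of_rat (char_isIntegral (isCharacter_of_irr χ.2) x) hq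
  refine ⟨z, hz.symm, (a : ℤ) - z, ?_⟩
  rw [← hz] at ha
  have : ((charDegree (χ : G → ℂ) : ℤ) + z + z : ℤ) = (3 * a : ℤ) := by exact_mod_cast ha
  linarith

theorem SC.exists_mult (χ : IrrCharacter G) :
    ∃ j k : ℕ, (χ : G → ℂ) 1 + 2 * (χ : G → ℂ) x = 3 * ((j : ℂ) + k) ∧
      (χ : G → ℂ) t = (j : ℂ) - k := by
  obtain ⟨n, ρ, -, hρ⟩ := χ.2
  have hcls := isClassFunction_irr χ
  rw [← hρ] at hcls ⊢
  haveI := Fintype.ofFinite (zpowers x)
  let P : Module.End ℂ (Fin n → ℂ) := (3 : ℂ)⁻¹ • ∑ s : zpowers x, ρ (s : G)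
  have hcard : Fintype.card (zpowers x) = 3 := by
    rw [← Nat.card_eq_fintype_card, Nat.card_zpowers, h.ord]
  have hmul : ∀ u : zpowers x, ρ (u : G) * ∑ s : zpowers x, ρ (s : G) = ∑ s : zpowers x, ρ (s : G) :=
    fun u => by
      rw [Finset.mul_sum]
      exact Fintype.sum_equiv (Equiv.mulLeft u) _ _ fun s => by
        rw [Equiv.coe_mulLeft, Subgroup.coe_mul, map_mul]
  have hPP : P * P = P := by
    simp only [P]
    rw [smul_mul_assoc, mul_smul_comm, Finset.sum_mul, Finset.sum_congr rfl fun u _ => hmul u,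
      Finset.sum_const, Finset.card_univ, hcard, ← Nat.cast_smul_eq_nsmul ℂ, smul_smul, smul_smul]
    norm_num
  have hTT : ρ t * ρ t = 1 := by
    rw [← map_mul, ← _root_.sq, ← ht, pow_orderOf_eq_one, map_one]
  have hti : ∀ s : zpowers x, t * (s : G) * t⁻¹ = (s : G)⁻¹ := by
    rintro ⟨s, hs⟩
    obtain ⟨i, rfl⟩ := Subgroup.mem_zpowers_iff.1 hs
    rw [← conj_zpow, hinv, inv_zpow]
  have hPT : ρ t * P = P * ρ t := by
    simp only [P]
    rw [mul_smul_comm, smul_mul_assoc, Finset.mul_sum, Finset.sum_mul]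
    congr 1
    refine Fintype.sum_equiv (Equiv.inv (zpowers x)) _ _ fun s => ?_
    rw [← map_mul, ← map_mul, Equiv.inv_apply, InvMemClass.coe_inv, ← hti s]
    congr 1
    group
  have hidem : ∀ c : ℂ, c * c = 1 →
      ((2 : ℂ)⁻¹ • (P + c • (P * ρ t))) * ((2 : ℂ)⁻¹ • (P + c • (P * ρ t))) =
        (2 : ℂ)⁻¹ • (P + c • (P * ρ t)) := by
    intro c hc
    have h1 : P * (P * ρ t) = P * ρ t := by rw [← mul_assoc, hPP]
    have h2 : P * ρ t * P = P * ρ t := by rw [mul_assoc, hPT, h1]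
    have h3 : P * ρ t * (P * ρ t) = P := by rw [← mul_assoc, h2, mul_assoc, hTT, mul_one]
    simp only [smul_mul_assoc, mul_smul_comm, add_mul, mul_add, hPP, h1, h2, h3, smul_add,
      smul_smul]
    match_scalars
    · linear_combination hc / 12
    · ring
  have htr : ∀ E : Module.End ℂ (Fin n → ℂ), E * E = E →
      ∃ r : ℕ, LinearMap.trace ℂ _ E = (r : ℂ) := fun E hE =>
    ⟨_, (E.isProj_range_iff_isIdempotentElem.2 hE).trace⟩
  obtain ⟨j, hj⟩ := htr _ (hidem 1 (one_mul 1))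
  obtain ⟨k, hk⟩ := htr _ (hidem (-1) (by ring))
  have h1 : LinearMap.trace ℂ _ P = (3 : ℂ)⁻¹ * ∑ s : zpowers x, ρ.character (s : G) := by
    simp only [P, map_smul, map_sum, smul_eq_mul]
    rfl
  have h2 : LinearMap.trace ℂ _ (P * ρ t) = ρ.character t := by
    simp only [P, smul_mul_assoc, Finset.sum_mul, map_smul, map_sum, smul_eq_mul]
    have : ∀ s : zpowers x, LinearMap.trace ℂ _ (ρ (s : G) * ρ t) = ρ.character t := fun s => by
      have hs2 : ((s : G) ^ 2) ^ 2 = (s : G) := by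
        rw [← pow_mul, pow_succ _ 3]
        rcases h.mem_zpowers_iff.1 s.2 with e | e | e <;> rw [e]
        · simp
        · rw [h.cube, one_mul]
        · rw [h.sq.cube, one_mul]
      rw [← map_mul, ← hs2, ← h.conj_mul hinv (pow_mem s.2 2)]
      exact hcls t _
    rw [Finset.sum_congr rfl fun s _ => this s, Finset.sum_const, Finset.card_univ, hcard,
      nsmul_eq_mul]
    norm_num
    ring
  have hsum : ∑ s : zpowers x, ρ.character (s : G) = ρ.character 1 + 2 * ρ.character x := by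
    rw [← Finset.sum_subtype ({1, x, x⁻¹} : Finset G) (fun y => by
      rw [Finset.mem_insert, Finset.mem_insert, Finset.mem_singleton, h.mem_zpowers_iff, h.sq_eq_inv])
      (fun y => ρ.character y)]
    rw [Finset.sum_insert (by simp [eq_comm, h.ne_one]),
      Finset.sum_pair (by rw [← h.sq_eq_inv]; exact h.sq_ne_self.symm), ← hinv, hcls x t]
    ring
  simp only [map_smul, map_add, smul_eq_mul, h1, h2, hsum] at hj hk
  refine ⟨j, k, ?_, ?_⟩
  · linear_combination 3 * hj + 3 * hk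
  · linear_combination hj - hk

end Values

/-- The counting data exist. -/
theorem SC.exists_counts [IsSimpleGroup G] (hG : ¬ IsMulCommutative G) : Nonempty (Counts x) := by
  haveI := irrFintype G
  obtain ⟨t, ht, hinv⟩ := h.exists_inverting hG
  choose xv hxv hmod using fun χ : IrrCharacter G => h.exists_int ht hinv χ
  choose j k hjk htv using fun χ : IrrCharacter G => h.exists_mult ht hinv χ
  let R := (Finset.univ : Finset (IrrCharacter G)).erase (principal G)
  have hp : xv (principal G) = 1 := by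
    have e := hxv (principal G)
    rw [principal_apply] at e
    exact_mod_cast e.symm
  have hconjx : ∀ χ : IrrCharacter G, conj ((χ : G → ℂ) x) = (xv χ : ℂ) := fun χ => by
    rw [hxv, map_intCast]
  have hsq : ∑ χ : IrrCharacter G, xv χ * xv χ = 3 := by
    have e := second_orthogonality x x
    rw [if_pos (IsConj.refl _), h.card_centralizer] at e
    simp only [hconjx, hxv, map_intCast] at e
    exact_mod_cast e
  rw [← Finset.add_sum_erase _ _ (Finset.mem_univ (principal G)), hp] at hsq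
  have hR2 : ∑ χ ∈ R, xv χ * xv χ = 2 := by linarith
  have hval : ∀ χ ∈ R, xv χ ≠ 0 → xv χ = 1 ∨ xv χ = -1 := fun χ hχ hne => by
    have hle := Finset.single_le_sum (f := fun χ => xv χ * xv χ) (fun ψ _ => mul_self_nonneg _) hχ
    rw [hR2] at hle
    have h1 : -1 ≤ xv χ := by nlinarith
    have h2 : xv χ ≤ 1 := by nlinarith
    omega
  let U := R.filter fun χ => xv χ ≠ 0
  have hU2 : ∑ χ ∈ U, xv χ * xv χ = 2 := by
    rw [Finset.sum_filter_of_ne (p := fun χ => xv χ ≠ 0) (fun χ _ hne h0 => hne (by rw [h0, zero_mul]))]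
    exact hR2
  have hUcard : U.card = 2 := by
    rw [Finset.sum_congr rfl (g := fun _ => (1 : ℤ)) (fun χ hχ => by
      simp only [U, Finset.mem_filter] at hχ
      rcases hval χ hχ.1 hχ.2 with e | e <;> rw [e] <;> norm_num)] at hU2
    simp only [Finset.sum_const, nsmul_eq_mul, mul_one] at hU2
    exact_mod_cast hU2
  have hne_t : ∀ u : G, orderOf u = 2 → ¬ IsConj u x := fun u hu hc => by
    obtain ⟨g, hg⟩ := isConj_iff.1 hc
    have := h.ord
    rw [← hg, ← MulAut.conj_apply, MulEquiv.orderOf_eq, hu] at this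
    omega
  -- the general column sum
  have hcol : ∀ (f : IrrCharacter G → ℂ), (∀ χ, xv χ = 0 → f χ = 0) →
      ∑ χ : IrrCharacter G, f χ = f (principal G) + ∑ χ ∈ U, f χ := fun f hf => by
    rw [← Finset.add_sum_erase _ _ (Finset.mem_univ (principal G))]
    congr 1
    exact (Finset.sum_filter_of_ne (p := fun χ => xv χ ≠ 0) (fun χ _ hne h0 => hne (hf χ h0))).symm
  have hdeg0 := second_orthogonality x (1 : G)
  rw [if_neg (fun hc => h.ne_one (isConj_one_right.1 hc))] at hdeg0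
  simp only [hxv, deg_eq, map_natCast] at hdeg0
  obtain ⟨c1, c2, hc12, hU, hx1, hx2⟩ : ∃ c1 c2, c1 ≠ c2 ∧ U = {c1, c2} ∧ xv c1 = 1 ∧ xv c2 = -1 := by
    obtain ⟨u, v, huv, hU⟩ := Finset.card_eq_two.1 hUcard
    have hu : u ∈ U := by rw [hU]; simp
    have hv : v ∈ U := by rw [hU]; simp
    simp only [U, Finset.mem_filter] at hu hv
    have e := hdeg0
    rw [hcol _ (fun χ h0 => by rw [h0]; simp), hU, Finset.sum_pair huv, hp] at e
    have e' : (1 : ℤ) * (charDegree ((principal G : IrrCharacter G) : G → ℂ) : ℤ) +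
        (xv u * (charDegree (u : G → ℂ) : ℤ) + xv v * (charDegree (v : G → ℂ) : ℤ)) = 0 := by
      exact_mod_cast e
    have du := deg_pos u
    have dv := deg_pos v
    have d1 := deg_pos (principal G)
    rcases hval u hu.1 hu.2 with eu | eu <;> rcases hval v hv.1 hv.2 with ev | ev <;>
      rw [eu, ev] at e'
    · omega
    · exact ⟨u, v, huv, hU, eu, ev⟩
    · exact ⟨v, u, huv.symm, by rw [hU, Finset.pair_comm], ev, eu⟩
    · -- both negative is excluded by the congruence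
      exfalso
      have m1 := hmod u
      have m2 := hmod v
      rw [eu] at m1
      rw [ev] at m2
      have hone : charDegree ((principal G : IrrCharacter G) : G → ℂ) = 1 := by
        have e1 := deg_eq (principal G)
        rw [principal_apply] at e1
        exact_mod_cast e1.symm
      omega
  have hc1R : c1 ∈ R := by
    have : c1 ∈ U := by rw [hU]; simp
    exact (Finset.mem_filter.1 this).1
  have hc2R : c2 ∈ R := by
    have : c2 ∈ U := by rw [hU]; simp
    exact (Finset.mem_filter.1 this).1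
  have hn1 : c1 ≠ principal G := (Finset.mem_erase.1 hc1R).1
  have hn2 : c2 ≠ principal G := (Finset.mem_erase.1 hc2R).1
  have hsum : ∀ (f : IrrCharacter G → ℂ), (∀ χ, xv χ = 0 → f χ = 0) →
      ∑ χ : IrrCharacter G, f χ = f (principal G) + (f c1 + f c2) := fun f hf => by
    rw [hcol f hf, hU, Finset.sum_pair hc12]
  set A := charDegree (c1 : G → ℂ) with hA
  have hdeg1 : (c1 : G → ℂ) 1 = (A : ℂ) := deg_eq c1
  have hdeg2 : (c2 : G → ℂ) 1 = (A : ℂ) + 1 := by
    rw [hsum _ (fun χ h0 => by rw [h0]; simp), hp, hx1, hx2, ← deg_eq, ← deg_eq c2,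
      principal_apply] at hdeg0
    push_cast at hdeg0
    linear_combination -hdeg0
  have hcolu : ∀ u : G, orderOf u = 2 → (c2 : G → ℂ) u = 1 + (c1 : G → ℂ) u := fun u hu => by
    have e := second_orthogonality u x
    rw [if_neg fun hc => hne_t u hu hc.symm] at e
    simp only [hconjx] at e
    rw [hsum _ (fun χ h0 => by rw [h0]; simp), hp, hx1, hx2, principal_apply] at e
    push_cast at e
    linear_combination -e
  -- the value at `t`
  obtain ⟨s, hs⟩ : ∃ s : ℤ, (c1 : G → ℂ) t = s :=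
    ⟨(j c1 : ℤ) - k c1, by rw [htv]; push_cast; rfl⟩
  have hs2 : (c2 : G → ℂ) t = 1 + s := by rw [hcolu t ht, hs]
  have hm1 : (A : ℤ) + 2 = 3 * ((j c1 : ℤ) + k c1) ∧ s = (j c1 : ℤ) - k c1 := by
    refine ⟨?_, ?_⟩
    · have e := hjk c1
      rw [hdeg1, hxv, hx1] at e
      push_cast at e
      exact_mod_cast (by push_cast; linear_combination e :
        (((A : ℤ) + 2 : ℤ) : ℂ) = ((3 * ((j c1 : ℤ) + k c1) : ℤ) : ℂ))
    · have e := (htv c1).symm.trans hs
      exact_mod_cast (by push_cast; exact e.symm : ((s : ℤ) : ℂ) = (((j c1 : ℤ) - k c1 : ℤ) : ℂ))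
  have hm2 : (A : ℤ) + 1 - 2 = 3 * ((j c2 : ℤ) + k c2) ∧ 1 + s = (j c2 : ℤ) - k c2 := by
    refine ⟨?_, ?_⟩
    · have e := hjk c2
      rw [hdeg2, hxv, hx2] at e
      push_cast at e
      exact_mod_cast (by push_cast; linear_combination e :
        (((A : ℤ) + 1 - 2 : ℤ) : ℂ) = ((3 * ((j c2 : ℤ) + k c2) : ℤ) : ℂ))
    · have e := (htv c2).symm.trans hs2
      exact_mod_cast (by push_cast; exact e.symm : (((1 + s : ℤ)) : ℂ) = (((j c2 : ℤ) - k c2 : ℤ) : ℂ))
  have hA2 : 2 ≤ A := Small.one_lt_charDegree hG hn1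
  have hAmod : A % 3 = 1 := by omega
  have hA4 : 4 ≤ A := by omega
  have hA0 : (A : ℂ) ≠ 0 := Nat.cast_ne_zero.2 (by omega)
  have hA1 : (A : ℂ) + 1 ≠ 0 := by exact_mod_cast (show A + 1 ≠ 0 by omega)
  have hAA : (A : ℂ) * ((A : ℂ) + 1) ≠ 0 := mul_ne_zero hA0 hA1
  -- all involutions are conjugate to `t`
  have hclass : ∀ u : G, orderOf u = 2 → IsConj t u := by
    intro u hu
    by_contra hne
    have hnoinv : ∀ g : G, g * u * g⁻¹ * x * (g * u * g⁻¹)⁻¹ ≠ x⁻¹ := fun g e => by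
      have hmem : t * (g * u * g⁻¹) ∈ zpowers x := by
        refine h.mem_zpowers_iff.2 (h.cent _ ?_)
        show t * (g * u * g⁻¹) * x = x * (t * (g * u * g⁻¹))
        refine mul_inv_eq_iff_eq_mul.1 ?_
        calc t * (g * u * g⁻¹) * x * (t * (g * u * g⁻¹))⁻¹ =
              t * (g * u * g⁻¹ * x * (g * u * g⁻¹)⁻¹) * t⁻¹ := by group
          _ = (t * x * t⁻¹)⁻¹ := by rw [e, conj_inv]
          _ = x := by rw [hinv, inv_inv]
      set r := t * (g * u * g⁻¹) with hr
      have hconj2 : (r * r) * t * (r * r)⁻¹ = r * t := by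
        have := h.conj_mul hinv (mul_mem hmem hmem)
        rw [this]
        rcases h.mem_zpowers_iff.1 hmem with er | er | er <;> rw [er]
        · simp
        · rw [← _root_.sq, ← pow_mul, pow_succ _ 3, h.cube, one_mul]
        · rw [← _root_.sq, ← pow_mul (x ^ 2), pow_succ _ 3, h.sq.cube, one_mul]
      have htt : t * t = 1 := by rw [← _root_.sq, ← ht, pow_orderOf_eq_one]
      refine hne ((isConj_iff.2 ⟨r * r, hconj2⟩).trans ?_)
      refine IsConj.trans (isConj_iff.2 ⟨t, ?_⟩ : IsConj (r * t) (g * u * g⁻¹)) (isConj_iff.2 ⟨g, rfl⟩).symm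
      rw [hr]
      calc t * (t * (g * u * g⁻¹) * t) * t⁻¹ = (t * t) * (g * u * g⁻¹) * (t * t⁻¹) := by group
        _ = g * u * g⁻¹ := by rw [htt]; group
    have huu : u * u = 1 := by rw [← _root_.sq, ← hu, pow_orderOf_eq_one]
    have e := card_conj_mul_conj u u x
    haveI : IsEmpty {gh : G × G // gh.1 * u * gh.1⁻¹ * (gh.2 * u * gh.2⁻¹) = x} := by
      refine ⟨fun ⟨⟨g, g'⟩, hgg⟩ => hnoinv g ?_⟩
      simp only at hgg
      have hu1 : g * u * g⁻¹ * (g * u * g⁻¹) = 1 := by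
        rw [show g * u * g⁻¹ * (g * u * g⁻¹) = g * (u * u) * g⁻¹ by group, huu]; group
      have hu2 : g' * u * g'⁻¹ * (g' * u * g'⁻¹) = 1 := by
        rw [show g' * u * g'⁻¹ * (g' * u * g'⁻¹) = g' * (u * u) * g'⁻¹ by group, huu]; group
      generalize g * u * g⁻¹ = a at hgg hu1 ⊢
      generalize g' * u * g'⁻¹ = b at hgg hu2
      rw [← hgg, mul_inv_rev, inv_eq_of_mul_eq_one_right hu1, inv_eq_of_mul_eq_one_right hu2,
        ← mul_assoc, hu1, one_mul]
    rw [Nat.card_of_isEmpty, Nat.cast_zero, eq_comm, mul_eq_zero_iff_left (card_ne_zero G)] at e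
    simp only [irr_inv, hconjx] at e
    rw [hsum _ (fun χ h0 => by rw [h0]; simp), hp, hx1, hx2, principal_apply, principal_apply,
      hdeg1, hdeg2, hcolu u hu] at e
    have hsq0 : ((A : ℂ) - (c1 : G → ℂ) u) ^ 2 = 0 := by
      field_simp at e
      push_cast at e
      linear_combination e
    have hcu : (c1 : G → ℂ) u = (c1 : G → ℂ) 1 := by
      rw [hdeg1]; exact (sub_eq_zero.1 (pow_eq_zero_iff two_ne_zero |>.1 hsq0)).symm
    rcases (charKer_normal c1).eq_bot_or_eq_top with hk | hk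
    · rw [← mem_charKer, hk, Subgroup.mem_bot] at hcu
      rw [hcu, orderOf_one] at hu
      omega
    · have : (c1 : G → ℂ) x = (c1 : G → ℂ) 1 := mem_charKer.1 (hk ▸ Subgroup.mem_top x)
      rw [hdeg1, hxv, hx1] at this
      have : (1 : ℤ) = (A : ℤ) := by exact_mod_cast this
      omega
  refine ⟨{
    t := t
    A := A
    s := s
    ht := ht
    inv := hinv
    isConj_t := hclass
    A_mod := hAmod
    four_le := hA4
    s_lower := by omega
    s_upper := by omega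
    parity := by omega
    card_T := ?_
    card_J := ?_
    card_G := ?_
    χ := c1
    χ' := c2
    deg_χ := hdeg1
    χ_x := by rw [hxv, hx1]; simp
    χ'_x := by rw [hxv, hx2]; simp
    χ_t := hs
    χ'_t := hs2
    others := fun θ h1 h2 h3 => by
      rw [hxv]
      by_contra hne
      have hθ : θ ∈ U := Finset.mem_filter.2 ⟨Finset.mem_erase.2 ⟨h1, Finset.mem_univ _⟩,
        fun h0 => hne (by rw [h0]; simp)⟩
      rw [hU, Finset.mem_insert, Finset.mem_singleton] at hθ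
      exact hθ.elim h2 h3
    ne := ⟨hn1, hn2, hc12⟩ }⟩
  · have e := card_conj_mul_conj x x x
    rw [h.card_pairs_T hG] at e
    simp only [irr_inv, hconjx, hxv, map_intCast] at e
    rw [hsum _ (fun χ h0 => by rw [h0]; simp), hp, hx1, hx2, principal_apply, hdeg1, hdeg2] at e
    have e' : ((9 * (Nat.card {a : G // InT x a} : ℤ) * (A * (A + 1)) : ℤ) : ℂ) =
        ((Nat.card G * (A * A + A + 1) : ℤ) : ℂ) := by
      push_cast at e ⊢
      field_simp at e
      linear_combination e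
    exact_mod_cast e'
  · have e := card_conj_mul_conj t x x
    rw [h.card_pairs_J hG ht hclass] at e
    simp only [irr_inv, hconjx, hxv, map_intCast] at e
    rw [hsum _ (fun χ h0 => by rw [h0]; simp), hp, hx1, hx2, principal_apply, principal_apply,
      hs, hs2, hdeg1, hdeg2] at e
    have e' : ((3 * (Nat.card (centralizer ({t} : Set G)) : ℤ) * Nat.card {a : G // InT x a ∧ orderOf a = 2} *
        (A * (A + 1)) : ℤ) : ℂ) = ((Nat.card G * (A * A + 2 * A + 2 * A * s + s) : ℤ) : ℂ) := by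
      push_cast at e ⊢
      field_simp at e
      linear_combination e
    exact_mod_cast e'
  · have e := card_conj_mul_conj t t x
    rw [h.card_pairs_t ht hinv] at e
    simp only [irr_inv, hconjx] at e
    rw [hsum _ (fun χ h0 => by rw [h0]; simp), hp, hx1, hx2, principal_apply, principal_apply,
      hs, hs2, hdeg1, hdeg2] at e
    have e' : ((3 * (Nat.card (centralizer ({t} : Set G)) : ℤ) ^ 2 * (A * (A + 1)) : ℤ) : ℂ) =
        ((Nat.card G * ((A : ℤ) - s) ^ 2 : ℤ) : ℂ) := by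
      push_cast at e ⊢
      field_simp at e
      linear_combination e
    exact_mod_cast e'

end CfsgLib.CharsMore.SCOrder3
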