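import Cfsg.Agent.Lib.CharsMore.SCOrder3.Counts
import Cfsg.Agent.Lib.Base.MinNonNilpotent
import Cfsg.Agent.Lib.Base.Transport

/-!
# Maximal invariant subgroups of order prime to three

Such a subgroup is normal, of index three or six, in the normalizer of each of its Sylow
subgroups.
-/

set_option autoImplicit false
set_option linter.style.haveILetI false
set_option linter.unusedSectionVars false

open scoped Classical

namespace CfsgLib.CharsMore.SCOrder3

open Subgroup CfsgLib.Base

variable {G : Type*} [Group G] [Finite G] {x : G} (h : SC x)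
include h

theorem SC.subgroup {H : Subgroup G} (hx : x ∈ H) : SC (⟨x, hx⟩ : H) where
  ord := by rw [Subgroup.orderOf_mk, h.ord]
  cent g hg := by
    rcases h.cent g (hg.map H.subtype) with e | e | e
    · exact Or.inl (Subtype.ext e)
    · exact Or.inr (Or.inl (Subtype.ext e))
    · exact Or.inr (Or.inr (Subtype.ext e))

theorem SC.normalizer_cases {g : G} (hg : g ∈ normalizer (zpowers x : Set G)) :
    g * x * g⁻¹ = x ∨ g * x * g⁻¹ = x⁻¹ := by
  have h1 := (Subgroup.mem_normalizer_iff.1 hg x).1 (mem_zpowers x)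
  rcases h.mem_zpowers_iff.1 h1 with e | e | e
  · exact absurd (by simpa using e) h.ne_one
  · exact Or.inl e
  · exact Or.inr (by rw [e, h.sq_eq_inv])

theorem SC.card_normalizer :
    Nat.card (normalizer (zpowers x : Set G)) = 3 ∨ Nat.card (normalizer (zpowers x : Set G)) = 6 := by
  let N := normalizer (zpowers x : Set G)
  have hle : zpowers x ≤ N := Subgroup.le_normalizer
  by_cases hinv : ∃ g ∈ N, g * x * g⁻¹ = x⁻¹
  · right
    obtain ⟨g, hg, hgx⟩ := hinv
    have hidx : ((zpowers x).subgroupOf N).index = 2 := by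
      refine Subgroup.index_eq_two_iff.2 ⟨⟨g, hg⟩, fun b => ?_⟩
      have hmem : ∀ b : N, b ∈ (zpowers x).subgroupOf N ↔ (b : G) * x * (b : G)⁻¹ = x := fun b => by
        rw [Subgroup.mem_subgroupOf]
        refine ⟨fun hb => ?_, fun hb => h.mem_zpowers_iff.2 (h.cent _ (mul_inv_eq_iff_eq_mul.1 hb : _ = _))⟩
        obtain ⟨i, hi⟩ := Subgroup.mem_zpowers_iff.1 hb
        rw [← hi]; group
      rw [hmem, hmem, Subgroup.coe_mul]
      show Xor' ((b : G) * g * x * ((b : G) * g)⁻¹ = x) ((b : G) * x * (b : G)⁻¹ = x)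
      rw [show (b : G) * g * x * ((b : G) * g)⁻¹ = (b : G) * (g * x * g⁻¹) * (b : G)⁻¹ by group, hgx,
        ← conj_inv]
      rcases h.normalizer_cases b.2 with e | e <;> rw [e]
      · refine Or.inr ⟨rfl, fun e' => ?_⟩
        exact h.sq_ne_self (by rw [h.sq_eq_inv, e'])
      · refine Or.inl ⟨inv_inv x, fun e' => ?_⟩
        exact h.sq_ne_self (by rw [h.sq_eq_inv, e'])
    have h1 := ((zpowers x).subgroupOf N).card_mul_index
    rw [Nat.card_congr (subgroupOfEquivOfLe hle).toEquiv, Nat.card_zpowers, h.ord, hidx] at h1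
    exact h1.symm
  · left
    rw [← h.ord, ← Nat.card_zpowers]
    refine congrArg (fun H : Subgroup G => Nat.card H) (le_antisymm (fun g hg => ?_) hle)
    push Not at hinv
    exact h.mem_zpowers_iff.2 (h.cent _
      (mul_inv_eq_iff_eq_mul.1 ((h.normalizer_cases hg).resolve_right (hinv g hg)) : _ = _))

/-- The quotient by a normal subgroup of order prime to three. -/
theorem SC.quotient (K : Subgroup G) [hK : K.Normal] (h3 : ¬ 3 ∣ Nat.card K) :
    SC (QuotientGroup.mk' K x) := by
  haveI := Fact.mk Nat.prime_three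
  have hxK : x ∉ K := fun e => h3 (h.ord ▸ (Subgroup.orderOf_mk x e ▸ orderOf_dvd_natCard _))
  have hord : orderOf (QuotientGroup.mk' K x) = 3 := orderOf_eq_prime (by
    rw [← map_pow, h.cube, map_one]) (by
    rw [Ne, QuotientGroup.mk'_apply, QuotientGroup.eq_one_iff]; exact hxK)
  refine ⟨hord, fun q hq => ?_⟩
  obtain ⟨y, rfl⟩ := QuotientGroup.mk'_surjective K q
  -- the conjugate of `x` by `y` is a conjugate by an element of `K`
  have hS : SC (y * x * y⁻¹) := h.conj y
  obtain ⟨k, hk⟩ : ∃ k ∈ K, y * x * y⁻¹ = k * x := by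
    refine ⟨y * x * y⁻¹ * x⁻¹, ?_, by group⟩
    rw [← QuotientGroup.eq_one_iff, ← QuotientGroup.mk'_apply, map_mul, map_mul, map_mul, map_inv,
      map_inv, hq.eq, mul_inv_cancel_right, mul_inv_cancel]
  -- Sylow subgroups of `K ⊔ zpowers x`
  have hxH : x ∈ zpowers x ⊔ K := (le_sup_left : zpowers x ≤ _) (mem_zpowers x)
  have hyH : y * x * y⁻¹ ∈ zpowers x ⊔ K := by
    rw [hk.2]; exact mul_mem ((le_sup_right : K ≤ _) hk.1) hxH
  obtain ⟨w, hw⟩ := (h.subgroup hxH).exists_conj (y := ⟨_, hyH⟩)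
    (by rw [Subgroup.orderOf_mk, hS.ord])
  have hwK : ∀ w : (zpowers x ⊔ K : Subgroup G),
      Commute (QuotientGroup.mk' K (w : G)) (QuotientGroup.mk' K x) := by
    rintro ⟨w, hw⟩
    obtain ⟨a, ha, b, hb, rfl⟩ := Subgroup.mem_sup_of_normal_right.1 hw
    obtain ⟨i, rfl⟩ := Subgroup.mem_zpowers_iff.1 ha
    show Commute (QuotientGroup.mk' K (x ^ i * b)) _
    rw [map_mul, show QuotientGroup.mk' K b = 1 from (QuotientGroup.eq_one_iff b).2 hb, mul_one,
      map_zpow]
    exact (Commute.refl _).zpow_left i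
  have hsame : y * x * y⁻¹ = (w : G) * x * (w : G)⁻¹ := by
    rcases hw with e | e
    · exact (congrArg Subtype.val e).symm
    · exfalso
      have e1 : (w : G) * x ^ 2 * (w : G)⁻¹ = y * x * y⁻¹ := congrArg Subtype.val e
      have e2 := congrArg (QuotientGroup.mk' K) e1
      simp only [map_mul, map_inv, map_pow] at e2
      rw [hq.eq, mul_inv_cancel_right, ((hwK w).pow_right 2).eq, mul_inv_cancel_right, _root_.sq,
        mul_eq_left] at e2
      rw [e2, orderOf_one] at hord
      omega
  have hc : Commute ((w : G)⁻¹ * y) x := by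
    show (w : G)⁻¹ * y * x = x * ((w : G)⁻¹ * y)
    calc (w : G)⁻¹ * y * x = (w : G)⁻¹ * (y * x * y⁻¹) * y := by group
      _ = x * ((w : G)⁻¹ * y) := by rw [hsame]; group
  have hy : QuotientGroup.mk' K y = QuotientGroup.mk' K (w : G) * QuotientGroup.mk' K ((w : G)⁻¹ * y) := by
    rw [← map_mul, mul_inv_cancel_left]
  obtain ⟨i, hi⟩ : ∃ i : ℤ, QuotientGroup.mk' K (w : G) = QuotientGroup.mk' K x ^ i := by
    obtain ⟨w', hw'⟩ := w
    obtain ⟨a, ha, b, hb, rfl⟩ := Subgroup.mem_sup_of_normal_right.1 hw'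
    obtain ⟨i, rfl⟩ := Subgroup.mem_zpowers_iff.1 ha
    exact ⟨i, by
      show QuotientGroup.mk' K (x ^ i * b) = _
      rw [map_mul, show QuotientGroup.mk' K b = 1 from (QuotientGroup.eq_one_iff b).2 hb, mul_one,
        map_zpow]⟩
  have hmem : QuotientGroup.mk' K y ∈ zpowers (QuotientGroup.mk' K x) := by
    rw [hy, hi]
    refine mul_mem (zpow_mem (mem_zpowers _) i) ?_
    rcases h.cent _ hc with e | e | e <;> rw [e]
    · rw [map_one]; exact one_mem _
    · exact mem_zpowers _
    · rw [map_pow]; exact pow_mem (mem_zpowers _) 2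
  obtain ⟨j, hj⟩ := Subgroup.mem_zpowers_iff.1 hmem
  rw [← zpow_mod_orderOf, hord] at hj
  rcases (show j % 3 = 0 ∨ j % 3 = 1 ∨ j % 3 = 2 by omega) with e | e | e <;>
    (push_cast at hj; rw [e] at hj)
  · left; rw [← hj, zpow_zero]
  · right; left; rw [← hj, zpow_one]
  · right; right; rw [← hj]; exact zpow_natCast _ 2

omit h in
/-- The largest normal subgroup of order prime to three. -/
theorem exists_core (M : Type*) [Group M] [Finite M] :
    ∃ K : Subgroup M, K.Normal ∧ ¬ 3 ∣ Nat.card K ∧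
      ∀ N : Subgroup M, N.Normal → ¬ 3 ∣ Nat.card N → N ≤ K := by
  obtain ⟨K, ⟨hKn, hK3⟩, hmax⟩ := Set.Finite.exists_maximal
    (Set.toFinite {K : Subgroup M | K.Normal ∧ ¬ 3 ∣ Nat.card K})
    ⟨⊥, inferInstance, by rw [Subgroup.card_bot]; norm_num⟩
  refine ⟨K, hKn, hK3, fun N hNn hN3 => ?_⟩
  have h1 : ¬ 3 ∣ Nat.card (N ⊔ K : Subgroup M) := fun hd =>
    (Nat.prime_three.dvd_mul.1 (hd.trans (card_sup_dvd N K))).elim hN3 hK3
  exact le_sup_left.trans (hmax (y := N ⊔ K) ⟨Subgroup.sup_normal N K, h1⟩ le_sup_right)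

/-- Without a normal subgroup of order prime to three, the group is small or simple. -/
theorem SC.trichotomy (hcore : ∀ N : Subgroup G, N.Normal → ¬ 3 ∣ Nat.card N → N = ⊥) :
    ((zpowers x).Normal ∧ (Nat.card G = 3 ∨ Nat.card G = 6)) ∨
      (IsSimpleGroup G ∧ ¬ IsMulCommutative G) := by
  by_cases hn : (zpowers x).Normal
  · left
    refine ⟨hn, ?_⟩
    have htop : normalizer (zpowers x : Set G) = ⊤ := Subgroup.normalizer_eq_top_iff.2 hn
    have := h.card_normalizer
    rwa [htop, Subgroup.card_top] at this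
  right
  have hmem : ∀ N : Subgroup G, N.Normal → N ≠ ⊥ → x ∈ N := fun N hN hne => by
    have h3 : 3 ∣ Nat.card N := by_contra fun e => hne (hcore N hN e)
    obtain ⟨g, hg⟩ := h.exists_conj_mem h3
    exact h.normal_eq_top_of_mem hN hg
  -- the smallest normal subgroup containing `x`
  let K := Subgroup.normalClosure ({x} : Set G)
  have hxK : x ∈ K := Subgroup.subset_normalClosure (Set.mem_singleton x)
  haveI hKnt : Nontrivial K :=
    (Subgroup.nontrivial_iff_exists_ne_one _).2 ⟨x, hxK, h.ne_one⟩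
  have hle : ∀ N : Subgroup G, N.Normal → N ≠ ⊥ → K ≤ N := fun N hN hne =>
    Subgroup.normalClosure_le_normal (Set.singleton_subset_iff.2 (hmem N hN hne))
  haveI hKs : IsSimpleGroup K := by
    refine ⟨fun N hN => ?_⟩
    by_cases h3 : 3 ∣ Nat.card N
    · right
      obtain ⟨k, hk⟩ := (h.subgroup hxK).exists_conj_mem h3
      have hx := (h.subgroup hxK).normal_eq_top_of_mem hN hk
      have hall : ∀ g : G, g * x * g⁻¹ ∈ N.map K.subtype := fun g => by
        have hgK : g * x * g⁻¹ ∈ K := (Subgroup.normalClosure_normal).conj_mem x hxK g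
        obtain ⟨w, hw⟩ := (h.subgroup hxK).exists_conj (y := ⟨_, hgK⟩)
          (by rw [Subgroup.orderOf_mk, (h.conj g).ord])
        refine ⟨⟨_, hgK⟩, ?_, rfl⟩
        rcases hw with e | e
        · rw [← e]; exact hN.conj_mem _ hx w
        · rw [← e]; exact hN.conj_mem _ (pow_mem hx 2) w
      have hKN : K ≤ N.map K.subtype := by
        refine Subgroup.closure_le _ |>.2 ?_
        intro y hy
        obtain ⟨z, hz, hc⟩ := Group.mem_conjugatesOfSet_iff.1 hy
        rw [Set.mem_singleton_iff] at hz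
        subst hz
        obtain ⟨g, rfl⟩ := isConj_iff.1 hc
        exact hall g
      rw [eq_top_iff]
      rintro ⟨y, hy⟩ -
      obtain ⟨⟨z, hz⟩, hzN, rfl⟩ := hKN hy
      exact hzN
    · left
      -- all such subgroups lie in a characteristic subgroup
      obtain ⟨C, hCn, hC3, hCmax⟩ := exists_core K
      have hchar : (C.map K.subtype).Normal := ⟨fun n hn g => by
        obtain ⟨⟨c, hcK⟩, hc, rfl⟩ := hn
        have hgc : g * c * g⁻¹ ∈ K := (Subgroup.normalClosure_normal).conj_mem c hcK g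
        refine ⟨⟨_, hgc⟩, ?_, rfl⟩
        let φ : K ≃* K := MulAut.conjNormal g
        have hnorm : (C.map φ.toMonoidHom).Normal := hCn.map _ φ.surjective
        have hle' := hCmax (C.map φ.toMonoidHom) hnorm (by
          rwa [Nat.card_congr (Subgroup.equivMapOfInjective C φ.toMonoidHom φ.injective).symm.toEquiv])
        refine hle' ⟨⟨c, hcK⟩, hc, Subtype.ext ?_⟩
        exact MulAut.conjNormal_apply g _⟩
      have h3' : ¬ 3 ∣ Nat.card (C.map K.subtype) := by
        rwa [Nat.card_congr (Subgroup.equivMapOfInjective C _ K.subtype_injective).symm.toEquiv]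
      have := hcore _ hchar h3'
      rw [Subgroup.map_eq_bot_iff_of_injective _ K.subtype_injective] at this
      exact le_bot_iff.1 (this ▸ hCmax N hN h3)
  have hKnc : ¬ IsMulCommutative K := fun hc => hn (by
    have hK3 : K = zpowers x := by
      refine le_antisymm (fun y hy => ?_) (zpowers_le.2 hxK)
      exact h.mem_zpowers_iff.2 (h.cent y (congrArg Subtype.val
        (mul_comm' (⟨y, hy⟩ : K) ⟨x, hxK⟩)))
    rw [← hK3]; exact Subgroup.normalClosure_normal)
  -- the Frattini argument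
  haveI := Fintype.ofFinite K
  obtain ⟨t, -, hinv⟩ := (h.subgroup hxK).exists_inverting hKnc
  have hKtop : K = ⊤ := by
    rw [eq_top_iff]
    intro g _
    have hgK : g * x * g⁻¹ ∈ K := (Subgroup.normalClosure_normal).conj_mem x hxK g
    obtain ⟨w, hw⟩ := (h.subgroup hxK).exists_conj (y := ⟨_, hgK⟩)
      (by rw [Subgroup.orderOf_mk, (h.conj g).ord])
    obtain ⟨k, hk, hkx⟩ : ∃ k ∈ K, g * x * g⁻¹ = k * x * k⁻¹ := by
      rcases hw with e | e
      · exact ⟨w, w.2, (congrArg Subtype.val e).symm⟩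
      · refine ⟨(w : G) * t, mul_mem w.2 t.2, ?_⟩
        have e1 : (w : G) * x ^ 2 * (w : G)⁻¹ = g * x * g⁻¹ := congrArg Subtype.val e
        have e2 : (t : G) * x * (t : G)⁻¹ = x⁻¹ := congrArg Subtype.val hinv
        rw [← e1, h.sq_eq_inv, ← e2]; group
    have hc : Commute (k⁻¹ * g) x := by
      show k⁻¹ * g * x = x * (k⁻¹ * g)
      calc k⁻¹ * g * x = k⁻¹ * (g * x * g⁻¹) * g := by group
        _ = x * (k⁻¹ * g) := by rw [hkx]; group
    have : k⁻¹ * g ∈ K := zpowers_le.2 hxK (h.mem_zpowers_iff.2 (h.cent _ hc))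
    simpa using mul_mem hk this
  let e : K ≃* G := (MulEquiv.subgroupCongr hKtop).trans Subgroup.topEquiv
  exact ⟨isSimpleGroup_of_surjective_of_nontrivial e,
    fun hc => hKnc ⟨⟨fun a b => e.injective (by rw [map_mul, map_mul]; exact hc.is_comm.comm _ _)⟩⟩⟩
where
  isSimpleGroup_of_surjective_of_nontrivial {K : Subgroup G} [IsSimpleGroup K] (e : K ≃* G) :
      IsSimpleGroup G :=
    haveI : Nontrivial G := e.injective.nontrivial
    ⟨fun N hN => (((hN.comap e.toMonoidHom).eq_bot_or_eq_top).imp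
      (fun hb => by
        rw [← Subgroup.map_comap_eq_self_of_surjective (f := e.toMonoidHom) e.surjective N, hb,
          Subgroup.map_bot])
      (fun ht => by
        rw [← Subgroup.map_comap_eq_self_of_surjective (f := e.toMonoidHom) e.surjective N, ht,
          Subgroup.map_top_of_surjective _ e.surjective]))⟩

/-- A simple group has a nontrivial invariant subgroup of order prime to three. -/
theorem SC.exists_inv_ne_bot [IsSimpleGroup G] (hG : ¬ IsMulCommutative G) :
    ∃ u : G, orderOf u = 2 ∧ InT x u := by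
  haveI := Fintype.ofFinite G
  obtain ⟨D⟩ := h.exists_counts hG
  by_contra! hne
  haveI : IsEmpty {a : G // InT x a ∧ orderOf a = 2} := ⟨fun a => hne a.1 a.2.2 a.2.1⟩
  have e := D.card_J
  rw [Nat.card_of_isEmpty (α := {a : G // InT x a ∧ orderOf a = 2}), Nat.cast_zero, mul_zero,
    zero_mul, eq_comm, mul_eq_zero] at e
  have hA := D.four_le
  have h1 := D.s_lower
  rcases e with e | e
  · exact (Nat.card_pos (α := G)).ne' (by exact_mod_cast e)
  · have h3 : -(((D.A : ℤ) + 2)) ≤ 3 * D.s := by omega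
    nlinarith [mul_le_mul_of_nonneg_left h3 (show (0 : ℤ) ≤ 2 * (D.A : ℤ) + 1 by omega),
      mul_le_mul_of_nonneg_right (show (4 : ℤ) ≤ D.A by exact_mod_cast hA) (show (0 : ℤ) ≤ D.A by omega)]

omit h in
/-- A maximal invariant subgroup of order prime to three. -/
def IsMaxInv (x : G) (L : Subgroup G) : Prop :=
  Inv x L ∧ ∀ U : Subgroup G, Inv x U → L ≤ U → U ≤ L

omit h in
theorem exists_isMaxInv {U : Subgroup G} (hU : Inv x U) : ∃ L, IsMaxInv x L ∧ U ≤ L := by
  obtain ⟨L, ⟨hL, hUL⟩, hmax⟩ := Set.Finite.exists_maximal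
    (Set.toFinite {L : Subgroup G | Inv x L ∧ U ≤ L}) ⟨U, hU, le_rfl⟩
  exact ⟨L, ⟨hL, fun V hV hle => hmax (y := V) ⟨hV, hUL.trans hle⟩ hle⟩, hUL⟩

/-- A maximal invariant subgroup is normal of index three or six in the normalizer of each of its
Sylow subgroups. -/
theorem IsMaxInv.normalizer_eq {L : Subgroup G} (hL : IsMaxInv x L) {p : ℕ} [hp : Fact p.Prime]
    (P : Sylow p L) (hP : (P : Subgroup L) ≠ ⊥) :
    normalizer (((P : Subgroup L).map L.subtype : Subgroup G) : Set G) = normalizer (L : Set G) ∧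
      (Nat.card (normalizer (L : Set G)) = Nat.card L * 3 ∨
        Nat.card (normalizer (L : Set G)) = Nat.card L * 6) := by
  obtain ⟨⟨hxL, h3L⟩, hmax⟩ := hL
  have hInvL : Inv x L := ⟨hxL, h3L⟩
  haveI hnil := hInvL.isNilpotent h
  have hPn : (P : Subgroup L).Normal :=
    P.normal_of_normalizerCondition Group.normalizerCondition_of_isNilpotent
  haveI : Subsingleton (Sylow p L) := Sylow.unique_of_normal P hPn |>.instSubsingleton
  set R := (P : Subgroup L).map L.subtype with hRdef
  have hRL : R ≤ L := Subgroup.map_subtype_le _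
  have hRp : IsPGroup p R := P.isPGroup'.map _
  have hR : ∀ m : G, m ∈ L → IsPGroup p (zpowers m) → m ∈ R := by
    intro m hm hpm
    obtain ⟨Q, hQ⟩ := (hpm.comap_subtype (K := L)).exists_le_sylow
    rw [Subsingleton.elim Q P] at hQ
    exact ⟨⟨m, hm⟩, hQ (mem_zpowers m : m ∈ zpowers m), rfl⟩
  have hNM : normalizer (L : Set G) ≤ normalizer (R : Set G) := by
    intro g hg
    have key : ∀ g ∈ normalizer (L : Set G), ∀ m ∈ R, g * m * g⁻¹ ∈ R := fun g hg m hm => by
      refine hR _ ((Subgroup.mem_normalizer_iff.1 hg m).1 (hRL hm)) ?_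
      have hpm : IsPGroup p (zpowers m) := hRp.to_le (zpowers_le.2 hm)
      have := hpm.map (MulAut.conj g).toMonoidHom
      rwa [MonoidHom.map_zpowers] at this
    refine Subgroup.mem_normalizer_iff.2 fun m => ⟨key g hg m, fun hm => ?_⟩
    have := key g⁻¹ (inv_mem hg) _ hm
    simpa [mul_assoc] using this
  set M := normalizer (R : Set G) with hM
  have hLM : L ≤ M := (Subgroup.le_normalizer).trans hNM
  have hxM : x ∈ M := hNM hxL
  set x' : M := ⟨x, hxM⟩ with hx'
  have hS' : SC x' := h.subgroup hxM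
  set L' := L.subgroupOf M with hL'
  have hcardL' : Nat.card L' = Nat.card L := Nat.card_congr (subgroupOfEquivOfLe hLM).toEquiv
  obtain ⟨K, hKn, hK3, hKmax⟩ := exists_core M
  haveI := hKn
  -- `K ≤ L'`
  have hKL : K ≤ L' := by
    have h3' : ¬ 3 ∣ Nat.card (L' ⊔ K : Subgroup M) := fun hd =>
      (Nat.prime_three.dvd_mul.1 (hd.trans (card_sup_dvd L' K))).elim (hcardL'.symm ▸ h3L) hK3
    have hinv : Inv x ((L' ⊔ K).map M.subtype) := by
      refine ⟨?_, by rwa [Nat.card_congr (Subgroup.equivMapOfInjective _ _ M.subtype_injective).symm.toEquiv]⟩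
      have hx1 : x' ∈ normalizer ((L' ⊔ K : Subgroup M) : Set M) := by
        refine normalizer_inf_normalizer_le_normalizer_sup L' K ?_
        refine ⟨?_, by rw [Subgroup.normalizer_eq_top_iff.2 hKn]; exact Subgroup.mem_top _⟩
        exact Subgroup.mem_normalizer_iff.2 fun n => (Subgroup.mem_normalizer_iff.1 hxL (n : G))
      exact Subgroup.le_normalizer_map M.subtype ⟨x', hx1, rfl⟩
    have hle := hmax _ hinv (fun l hl => ⟨⟨l, hLM hl⟩, (le_sup_left : L' ≤ _) hl, rfl⟩)
    exact fun k hk => hle ⟨k, (le_sup_right : K ≤ _) hk, rfl⟩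
  -- the quotient
  set π := QuotientGroup.mk' K
  have hSq : SC (π x') := hS'.quotient K hK3
  have hcore : ∀ N : Subgroup (M ⧸ K), N.Normal → ¬ 3 ∣ Nat.card N → N = ⊥ := by
    intro N hN hN3
    have h1 := hKmax (N.comap π) (hN.comap π) (by
      rw [card_comap_mk']
      exact fun hd => (Nat.prime_three.dvd_mul.1 hd).elim hK3 hN3)
    refine (Subgroup.eq_bot_iff_forall _).2 fun n hn => ?_
    obtain ⟨m, rfl⟩ := QuotientGroup.mk'_surjective K n
    exact (QuotientGroup.eq_one_iff m).2 (h1 hn)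
  have hLbar : Inv (π x') (L'.map π) := by
    refine ⟨Subgroup.le_normalizer_map π ⟨x', ?_, rfl⟩, fun hd => h3L (hcardL' ▸
      hd.trans (Subgroup.card_map_dvd L' π))⟩
    exact Subgroup.mem_normalizer_iff.2 fun n => (Subgroup.mem_normalizer_iff.1 hxL (n : G))
  suffices hLK : L' ≤ K ∧ (Nat.card (M ⧸ K) = 3 ∨ Nat.card (M ⧸ K) = 6) by
    have heq : L' = K := le_antisymm hLK.1 hKL
    have hMN : M = normalizer (L : Set G) := by
      refine le_antisymm (fun m hm => ?_) hNM
      haveI : L'.Normal := heq ▸ hKn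
      exact (Subgroup.normal_subgroupOf_iff_le_normalizer hLM).1 this hm
    refine ⟨hMN, ?_⟩
    have hc := card_mul_card_quotient K
    rw [← heq, hcardL'] at hc
    rw [← hMN, ← hc]
    rcases hLK.2 with e | e <;> rw [← heq] at e <;> rw [e]
    · exact Or.inl rfl
    · exact Or.inr rfl
  rcases hSq.trichotomy hcore with ⟨hn, hcard⟩ | ⟨hsimple, hnc⟩
  · refine ⟨?_, hcard⟩
    rw [← map_mk'_eq_bot_iff (N := K) (H := L'), Subgroup.eq_bot_iff_forall]
    intro l hl
    refine hLbar.eq_one_of_commute hSq hl ?_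
    have h1 : l * π x' * l⁻¹ * (π x')⁻¹ ∈ L'.map π := by
      rw [mul_assoc l (π x') l⁻¹, mul_assoc]
      exact mul_mem hl (hLbar.conj_mem hSq (inv_mem hl))
    have h2 : l * π x' * l⁻¹ * (π x')⁻¹ ∈ zpowers (π x') :=
      mul_mem (hn.conj_mem _ (mem_zpowers _) l) (inv_mem (mem_zpowers _))
    have h3 : l * π x' * l⁻¹ * (π x')⁻¹ = 1 := by
      refine hLbar.eq_one_of_commute hSq h1 ?_
      obtain ⟨i, hi⟩ := Subgroup.mem_zpowers_iff.1 h2
      rw [← hi]
      exact (Commute.refl _).zpow_left i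
    exact mul_inv_eq_iff_eq_mul.1 (mul_inv_eq_one.1 h3)
  · exfalso
    haveI := hsimple
    by_cases hLb : L'.map π = ⊥
    · -- maximality
      obtain ⟨u, hu2, hu⟩ := hSq.exists_inv_ne_bot hnc
      obtain ⟨W, hW, huW⟩ := exists_inv_of_inT hSq hu
      have heq : L' = K := le_antisymm (map_mk'_eq_bot_iff.1 hLb) hKL
      have hinv : Inv x ((W.comap π).map M.subtype) := by
        refine ⟨?_, ?_⟩
        · have hx1 : x' ∈ normalizer ((W.comap π : Subgroup M) : Set M) :=
            Subgroup.le_normalizer_comap π (show π x' ∈ normalizer (W : Set (M ⧸ K)) from hW.1)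
          exact Subgroup.le_normalizer_map M.subtype ⟨x', hx1, rfl⟩
        · rw [Nat.card_congr (Subgroup.equivMapOfInjective _ _ M.subtype_injective).symm.toEquiv,
            card_comap_mk']
          exact fun hd => (Nat.prime_three.dvd_mul.1 hd).elim hK3 hW.2
      have hle := hmax _ hinv (fun l hl => ⟨⟨l, hLM hl⟩,
        (QuotientGroup.le_comap_mk' K W) (heq ▸ (hl : (⟨l, hLM hl⟩ : M) ∈ L')), rfl⟩)
      obtain ⟨m, rfl⟩ := QuotientGroup.mk'_surjective K u
      have : (m : G) ∈ L := hle ⟨m, huW, rfl⟩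
      have hmK : m ∈ K := heq ▸ (this : m ∈ L')
      rw [show π m = 1 from (QuotientGroup.eq_one_iff m).2 hmK, orderOf_one] at hu2
      omega
    · -- some element of `L` of order prime to `p` lies outside `K`
      set R' := R.subgroupOf M with hR'
      haveI hR'n : R'.Normal := (Subgroup.normal_subgroupOf_iff_le_normalizer Subgroup.le_normalizer).2 le_rfl
      have hR'card : Nat.card R' = Nat.card R :=
        Nat.card_congr (subgroupOfEquivOfLe Subgroup.le_normalizer).toEquiv
      have hR'K : R' ≤ K := hKmax R' hR'n (by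
        rw [hR'card]; exact fun hd => h3L (hd.trans (Subgroup.card_dvd_of_le hRL)))
      obtain ⟨l, hl, hlK, hlp⟩ : ∃ l : M, (l : G) ∈ L ∧ l ∉ K ∧ (orderOf (l : G)).Coprime p := by
        by_contra! hall
        refine hLb (map_mk'_eq_bot_iff.2 fun l hl => ?_)
        have hl' : (l : G) ∈ L := hl
        set n := orderOf (l : G) with hn
        have hn0 : n ≠ 0 := (orderOf_pos _).ne'
        obtain ⟨a, ha⟩ : ∃ a, a = p ^ n.factorization p := ⟨_, rfl⟩
        obtain ⟨b, hb⟩ : ∃ b, b = n / p ^ n.factorization p := ⟨_, rfl⟩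
        have hab : a * b = n := by rw [ha, hb]; exact Nat.ordProj_mul_ordCompl_eq_self n p
        have hcop : Nat.Coprime a b := by
          rw [ha, hb]; exact (Nat.coprime_ordCompl hp.out hn0).pow_left _
        have hb0 : b ≠ 0 := fun e => hn0 (by rw [← hab, e, mul_zero])
        have ha0 : a ≠ 0 := by rw [ha]; exact pow_ne_zero _ hp.out.ne_zero
        have h1 : l ^ b ∈ K := hR'K (show (l : G) ^ b ∈ R from hR _ (pow_mem hl' b) (by
          refine IsPGroup.of_card (n := n.factorization p) ?_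
          rw [Nat.card_zpowers, orderOf_pow' _ hb0, ← hn, ← hab, Nat.gcd_eq_right (dvd_mul_left b a),
            Nat.mul_div_cancel _ (Nat.pos_of_ne_zero hb0), hab, ha]))
        have h2 : l ^ a ∈ K := by
          by_contra hc
          refine hall (l ^ a) (pow_mem hl' a) hc ?_
          rw [SubmonoidClass.coe_pow, orderOf_pow' _ ha0, ← hn, ← hab,
            Nat.gcd_eq_right (dvd_mul_right a b), Nat.mul_div_cancel_left _ (Nat.pos_of_ne_zero ha0)]
          rw [hb]; exact (Nat.coprime_ordCompl hp.out hn0).symm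
        have hbez := Nat.gcd_eq_gcd_ab a b
        rw [hcop] at hbez
        have h3 : l = (l ^ a) ^ (Nat.gcdA a b) * (l ^ b) ^ (Nat.gcdB a b) := by
          rw [← zpow_natCast l a, ← zpow_natCast l b, ← zpow_mul, ← zpow_mul, ← zpow_add, ← hbez,
            Nat.cast_one, zpow_one]
        rw [h3]
        exact mul_mem (zpow_mem h2 _) (zpow_mem h1 _)
      let C := centralizer (R' : Set M)
      have hlC : l ∈ C := mem_centralizer_iff.2 fun r hr => Subtype.ext
        (Subgroup.mem_centralizer_iff.1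
          (MinNonNilpotent.commute_of_nilpotent hnil hRp hRL hl hlp) r hr)
      haveI : C.Normal := Subgroup.normal_centralizer
      have hCt : C.map π = ⊤ := by
        refine (((inferInstance : C.Normal).map π (QuotientGroup.mk'_surjective K)).eq_bot_or_eq_top).resolve_left
          fun hb => hlK ?_
        exact (map_mk'_eq_bot_iff.1 hb) hlC
      have h3C : 3 ∣ Nat.card C := by
        have := Subgroup.card_map_dvd C π
        rw [hCt, Subgroup.card_top] at this
        exact (hSq.three_dvd_card).trans this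
      obtain ⟨g, hg⟩ := hS'.exists_conj_mem h3C
      have hxC := hS'.normal_eq_top_of_mem inferInstance hg
      apply hP
      refine (Subgroup.eq_bot_iff_forall _).2 fun r hr => Subtype.ext ?_
      have hrR : (r : G) ∈ R := ⟨r, hr, rfl⟩
      refine hInvL.eq_one_of_commute h r.2 ?_
      exact congrArg Subtype.val (mem_centralizer_iff.1 hxC ⟨(r : G), Subgroup.le_normalizer hrR⟩ hrR)

end CfsgLib.CharsMore.SCOrder3
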