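import Cfsg.Agent.Lib.CharsMore.SCOrder3.Classes
import Cfsg.Agent.Lib.CharsMore.SCOrder3.Arith
import Cfsg.Agent.Lib.Base.FPF
import Cfsg.Agent.Lib.Chars.PermChar
import Cfsg.Agent.Lib.Small.PrincipalDegrees
import Cfsg.Agent.Lib.CharApps.Codegree

/-!
# Self-centralizing elements of order three: the order of a simple group

The invariant subgroups of order prime to three cover the elements counted by the first structure
constant; comparing with the other two leaves the orders `60` and `168`.
-/

set_option autoImplicit false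
set_option linter.style.haveILetI false
set_option linter.unusedSectionVars false

open scoped Classical

namespace CfsgLib.CharsMore.SCOrder3

open Cfsg CfsgLib.Chars CfsgLib.CharApps Subgroup

/-- The bound on the group order contained in the counting inequality. -/
theorem lt_of_ineq {g A m K : ℕ} (hg : 0 < g) (hm : 2 * A + 4 ≤ 3 * m)
    (h : g * (A * A + 2 + (2 * A + 1) * m) ≤ g * ((2 * A + 1) * A) + 18 * (A * (A + 1)) * K) :
    g < 54 * K := by
  by_contra! hc
  nlinarith [Nat.mul_le_mul_left (g * (2 * A + 1)) hm, Nat.mul_le_mul_left (A * (A + 1)) hc,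
    Nat.mul_le_mul_left 3 h]

theorem card_subtype_le_add {α : Type*} [Finite α] (p q r : α → Prop) (hpqr : ∀ a, p a → q a ∨ r a) :
    Nat.card {a // p a} ≤ Nat.card {a // q a} + Nat.card {a // r a} := by
  haveI := Fintype.ofFinite α
  simp only [Nat.card_eq_fintype_card, Fintype.card_subtype]
  refine (Finset.card_le_card fun a ha => ?_).trans (Finset.card_union_le _ _)
  simp only [Finset.mem_union, Finset.mem_filter, Finset.mem_univ, true_and] at ha ⊢
  exact hpqr a ha

theorem prod_dvd_of_pairwise_coprime {ι : Type*} (s : Finset ι) (f : ι → ℕ) (n : ℕ)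
    (hd : ∀ i ∈ s, f i ∣ n) (hc : ∀ i ∈ s, ∀ j ∈ s, i ≠ j → Nat.Coprime (f i) (f j)) :
    ∏ i ∈ s, f i ∣ n := by
  induction s using Finset.induction_on with
  | empty => simp
  | insert a s ha ih =>
    rw [Finset.prod_insert ha]
    refine Nat.Coprime.mul_dvd_of_dvd_of_dvd (Nat.Coprime.prod_right fun j hj => ?_)
      (hd a (Finset.mem_insert_self a s)) (ih (fun i hi => hd i (Finset.mem_insert_of_mem hi))
        (fun i hi j hj => hc i (Finset.mem_insert_of_mem hi) j (Finset.mem_insert_of_mem hj)))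
    exact hc a (Finset.mem_insert_self a s) j (Finset.mem_insert_of_mem hj) (fun e => ha (e ▸ hj))

theorem Counts.card_centralizer {G : Type*} [Group G] [Fintype G] {x : G} (D : Counts x) {u : G}
    (hu : orderOf u = 2) :
    Nat.card (centralizer ({u} : Set G)) = Nat.card (centralizer ({D.t} : Set G)) := by
  obtain ⟨g, hg⟩ := isConj_iff.1 (D.isConj_t u hu)
  refine Nat.card_congr ((Equiv.subtypeEquiv (MulAut.conj g).toEquiv fun v => ?_).symm)
  rw [mem_centralizer_singleton_iff, mem_centralizer_singleton_iff]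
  show v * D.t = D.t * v ↔ g * v * g⁻¹ * u = u * (g * v * g⁻¹)
  rw [← hg, show g * v * g⁻¹ * (g * D.t * g⁻¹) = g * (v * D.t) * g⁻¹ by group,
    show g * D.t * g⁻¹ * (g * v * g⁻¹) = g * (D.t * v) * g⁻¹ by group, mul_left_inj, mul_right_inj]

theorem Counts.two_part_dvd {G : Type*} [Group G] [Fintype G] {x : G} (D : Counts x) :
    2 ^ (Nat.card G).factorization 2 ∣ Nat.card (centralizer ({D.t} : Set G)) := by
  haveI := Fact.mk Nat.prime_two
  obtain ⟨S⟩ := (inferInstance : Nonempty (Sylow 2 G))
  have h2 : 2 ∣ Nat.card G := D.ht ▸ orderOf_dvd_natCard _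
  haveI : Nontrivial (S : Subgroup G) :=
    (Subgroup.nontrivial_iff_ne_bot _).2 (S.ne_bot_of_dvd_card h2)
  haveI := S.isPGroup'.center_nontrivial
  obtain ⟨n, hn0, hn⟩ := (S.isPGroup'.to_subgroup (center (S : Subgroup G))).nontrivial_iff_card.1
    inferInstance
  obtain ⟨z, hz⟩ := exists_prime_orderOf_dvd_card' (G := center (S : Subgroup G)) 2
    (by rw [hn]; exact dvd_pow_self 2 hn0.ne')
  have hz' : orderOf ((z : (S : Subgroup G)) : G) = 2 := by
    rw [Subgroup.orderOf_coe, Subgroup.orderOf_coe, hz]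
  rw [← D.card_centralizer hz', ← S.card_eq_multiplicity]
  refine Subgroup.card_dvd_of_le fun s hs => mem_centralizer_singleton_iff.2 ?_
  exact congrArg Subtype.val (Subgroup.mem_center_iff.1 z.2 ⟨s, hs⟩)

theorem Counts.four_dvd {G : Type*} [Group G] [Fintype G] [IsSimpleGroup G]
    (hG : ¬ IsMulCommutative G) {x : G} (D : Counts x) :
    4 ∣ Nat.card G ∧ 4 ∣ Nat.card (centralizer ({D.t} : Set G)) := by
  have h4 : 4 ∣ Nat.card G :=
    Small.four_dvd_of_even hG (even_iff_two_dvd.2 (D.ht ▸ orderOf_dvd_natCard _))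
  refine ⟨h4, dvd_trans ?_ D.two_part_dvd⟩
  have h2 := (Nat.prime_two.pow_dvd_iff_le_factorization Nat.card_pos.ne').1 (show 2 ^ 2 ∣ Nat.card G from h4)
  exact pow_dvd_pow 2 h2

theorem Counts.deg' {G : Type*} [Group G] [Fintype G] {x : G} (D : Counts x) (hx : x ≠ 1) :
    charDegree (D.χ' : G → ℂ) = D.A + 1 ∧ charDegree (D.χ : G → ℂ) = D.A := by
  haveI := irrFintype G
  have e := second_orthogonality x (1 : G)
  rw [if_neg (fun hc => hx (isConj_one_right.1 hc))] at e
  have hz : ∀ θ : IrrCharacter G, θ ∉ ({principal G, D.χ, D.χ'} : Finset (IrrCharacter G)) →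
      (θ : G → ℂ) x = 0 := fun θ hθ => by
    simp only [Finset.mem_insert, Finset.mem_singleton, not_or] at hθ
    exact D.others θ hθ.1 hθ.2.1 hθ.2.2
  rw [← Finset.sum_subset (Finset.subset_univ _) (fun θ _ hθ => by rw [hz θ hθ]; simp),
    Finset.sum_insert (by simp [D.ne.1.symm, D.ne.2.1.symm]), Finset.sum_pair D.ne.2.2,
    principal_apply, principal_apply, D.χ_x, D.χ'_x, D.deg_χ, deg_eq D.χ'] at e
  have h1 : (charDegree (D.χ : G → ℂ) : ℂ) = (D.A : ℂ) := (deg_eq D.χ).symm.trans D.deg_χ
  refine ⟨?_, by exact_mod_cast h1⟩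
  simp only [map_one, map_natCast] at e
  have e' : (charDegree (D.χ' : G → ℂ) : ℂ) = ((D.A + 1 : ℕ) : ℂ) := by
    push_cast; linear_combination -e
  exact_mod_cast e'

variable {G : Type*} [Group G] [Finite G] {x : G}

/-- An involution of an invariant subgroup of order prime to three. -/
def IsJ (x u : G) : Prop := InT x u ∧ orderOf u = 2

/-- The elements lying in no centralizer of an invariant four-group. -/
def IsFree (x a : G) : Prop := a ≠ 1 ∧ InT x a ∧ ¬ ∃ u, IsJ x u ∧ a ∈ centV x u

/-- Maximal invariant subgroups of odd order. -/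
def IsOddMax (x : G) (L : Subgroup G) : Prop :=
  IsMaxInv x L ∧ L ≠ ⊥ ∧ ¬ 2 ∣ Nat.card L

variable (h : SC x)
include h

theorem Inv.card_mod_three {U : Subgroup G} (hU : Inv x U) : Nat.card U % 3 = 1 := by
  have h1 := (hU.isFPF h).card_dvd
  rw [Nat.card_zpowers, h.ord] at h1
  have := Nat.card_pos (α := U)
  omega

theorem mem_centV {u : G} (hu : InT x u) : u ∈ centV x u := by
  obtain ⟨-, c01, c02, -⟩ := InT.orbit h hu
  rw [centV, Subgroup.mem_centralizer_iff]
  intro w hw
  simp only [Set.mem_insert_iff, Set.mem_singleton_iff] at hw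
  rcases hw with rfl | rfl | rfl
  exacts [rfl, c01.eq.symm, c02.eq.symm]

theorem IsJ.conj {u : G} (hu : IsJ x u) : IsJ x (x * u * x⁻¹) :=
  ⟨InT.conj h hu.1, by rw [← MulAut.conj_apply, MulEquiv.orderOf_eq, hu.2]⟩

theorem conj_ne {u : G} (hu : orderOf u = 2) : x * u * x⁻¹ ≠ u := fun e => by
  rcases h.cent u (mul_inv_eq_iff_eq_mul.1 e).symm with e' | e' | e'
  · rw [e', orderOf_one] at hu; omega
  · rw [e', h.ord] at hu; omega
  · rw [e', h.sq.ord] at hu; omega

theorem three_le_card_J {u : G} (hu : IsJ x u) : 3 ≤ Nat.card {v : G // IsJ x v} := by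
  have hne := conj_ne h hu.2
  have hne2 : x * (x * u * x⁻¹) * x⁻¹ ≠ x * u * x⁻¹ := fun e =>
    hne (mul_left_cancel (mul_right_cancel e))
  have hne3 : x * (x * u * x⁻¹) * x⁻¹ ≠ u := fun e => hne (by
    have h3 := conj_orbit h.cube u
    rw [e] at h3
    exact h3)
  haveI := Fintype.ofFinite G
  rw [Nat.card_eq_fintype_card, Fintype.card_subtype]
  have hcard : ({u, x * u * x⁻¹, x * (x * u * x⁻¹) * x⁻¹} : Finset G).card = 3 := by
    rw [Finset.card_insert_of_notMem (by simp [hne.symm, hne3.symm]), Finset.card_pair hne2.symm]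
  rw [← hcard]
  refine Finset.card_le_card fun v hv => ?_
  simp only [Finset.mem_insert, Finset.mem_singleton] at hv
  refine Finset.mem_filter.2 ⟨Finset.mem_univ _, ?_⟩
  rcases hv with rfl | rfl | rfl
  exacts [hu, hu.conj h, (hu.conj h).conj h]

theorem card_T_le : Nat.card {a : G // InT x a} ≤
    1 + Nat.card {a : G // a ≠ 1 ∧ ∃ u, IsJ x u ∧ a ∈ centV x u} + Nat.card {a : G // IsFree x a} := by
  haveI := Fintype.ofFinite G
  simp only [Nat.card_eq_fintype_card, Fintype.card_subtype]
  refine (Finset.card_le_card (t := insert 1 ((Finset.univ.filter fun a : G =>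
      a ≠ 1 ∧ ∃ u, IsJ x u ∧ a ∈ centV x u) ∪ Finset.univ.filter fun a : G => IsFree x a))
    fun a ha => ?_).trans ?_
  · simp only [Finset.mem_filter, Finset.mem_univ, true_and] at ha
    simp only [Finset.mem_insert, Finset.mem_union, Finset.mem_filter, Finset.mem_univ, true_and]
    by_cases h1 : a = 1
    · exact Or.inl h1
    by_cases h2 : ∃ u, IsJ x u ∧ a ∈ centV x u
    · exact Or.inr (Or.inl ⟨h1, h2⟩)
    · exact Or.inr (Or.inr ⟨h1, ha, h2⟩)
  · refine (Finset.card_insert_le _ _).trans ?_
    have := Finset.card_union_le (Finset.univ.filter fun a : G =>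
      a ≠ 1 ∧ ∃ u, IsJ x u ∧ a ∈ centV x u) (Finset.univ.filter fun a : G => IsFree x a)
    omega

theorem IsFree.exists_oddMax {a : G} (ha : IsFree x a) : ∃ L, IsOddMax x L ∧ a ∈ L := by
  obtain ⟨U, hU, haU⟩ := exists_inv_of_inT h ha.2.1
  obtain ⟨L, hL, hUL⟩ := exists_isMaxInv hU
  refine ⟨L, ⟨hL, fun e => ha.1 (by simpa [e] using hUL haU), fun h2 => ?_⟩, hUL haU⟩
  obtain ⟨u, -, hu2, hu, hle⟩ := hL.exists_centV h h2
  exact ha.2.2 ⟨u, ⟨hu, hu2⟩, hle (hUL haU)⟩

theorem IsOddMax.isHallLike {L : Subgroup G} (hL : IsOddMax x L) : IsHallLike L :=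
  hL.1.isHallLike h (Or.inl hL.2.2)

theorem IsOddMax.mod_six {L : Subgroup G} (hL : IsOddMax x L) :
    Nat.card L % 6 = 1 ∧ 7 ≤ Nat.card L := by
  have h1 := hL.1.1.card_mod_three h
  have h2 := hL.2.2
  have h3 : Nat.card L ≠ 1 := fun e => hL.2.1 (Subgroup.card_eq_one.1 e)
  omega

/-- Representatives of the classes of odd maximal invariant subgroups. -/
theorem exists_reps : ∃ S : Finset (Subgroup G), (∀ L ∈ S, IsOddMax x L) ∧
    (∀ L ∈ S, ∀ L' ∈ S, L ≠ L' → Nat.Coprime (Nat.card L) (Nat.card L')) ∧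
    Nat.card {a : G // IsFree x a} ≤ ∑ L ∈ S, Nat.card {a : G //
      a ≠ 1 ∧ ∃ k : G, k * x * k⁻¹ ∈ normalizer (L : Set G) ∧ k * a * k⁻¹ ∈ L} := by
  haveI := Fintype.ofFinite G
  haveI := Fintype.ofFinite (Subgroup G)
  obtain ⟨S, ⟨hS1, hS2⟩, hmax⟩ := Set.Finite.exists_maximal
    (Set.toFinite {S : Finset (Subgroup G) | (∀ L ∈ S, IsOddMax x L) ∧
      ∀ L ∈ S, ∀ L' ∈ S, L ≠ L' → Nat.Coprime (Nat.card L) (Nat.card L')})
    ⟨∅, by simp, by simp⟩
  refine ⟨S, hS1, hS2, ?_⟩
  simp only [Nat.card_eq_fintype_card, Fintype.card_subtype]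
  refine (Finset.card_le_card fun a ha => ?_).trans Finset.card_biUnion_le
  have ha' : IsFree x a := (Finset.mem_filter.1 ha).2
  obtain ⟨L, hL, haL⟩ := ha'.exists_oddMax h
  obtain ⟨L', hL', hnc⟩ : ∃ L' ∈ S, ¬ Nat.Coprime (Nat.card L') (Nat.card L) := by
    by_contra! hall
    have hmem : L ∈ S := by
      refine hmax (y := insert L S) ⟨fun M hM => ?_, fun M hM M' hM' hne => ?_⟩
        (Finset.subset_insert L S) (Finset.mem_insert_self L S)
      · rcases Finset.mem_insert.1 hM with rfl | hM
        exacts [hL, hS1 M hM]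
      · rcases Finset.mem_insert.1 hM with eM | hM <;> rcases Finset.mem_insert.1 hM' with eM' | hM'
        · exact absurd (eM.trans eM'.symm) hne
        · rw [eM]; exact (hall M' hM').symm
        · rw [eM']; exact hall M hM
        · exact hS2 M hM M' hM' hne
    have := hall L hmem
    rw [Nat.coprime_self] at this
    have := (hL.mod_six h).2
    omega
  obtain ⟨p, hp, hp1, hp2⟩ := Nat.Prime.not_coprime_iff_dvd.1 hnc
  obtain ⟨g, hg⟩ := (hS1 L' hL').1.exists_conj h hL.1 ((hS1 L' hL').isHallLike h) (hL.isHallLike h)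
    hp hp1 hp2
  exact Finset.mem_biUnion.2 ⟨L', hL', Finset.mem_filter.2
    ⟨Finset.mem_univ _, ha'.1, mem_conjugates h hL.1 hg haL⟩⟩

theorem IsOddMax.card_conjugates {L : Subgroup G} (hL : IsOddMax x L) :
    Nat.card {a : G // a ≠ 1 ∧ ∃ k : G, k * x * k⁻¹ ∈ normalizer (L : Set G) ∧ k * a * k⁻¹ ∈ L} ≤
        2 * (Nat.card L - 1) ∧
      (Nat.card (normalizer (L : Set G)) = Nat.card L * 6 →
        Nat.card {a : G // a ≠ 1 ∧ ∃ k : G, k * x * k⁻¹ ∈ normalizer (L : Set G) ∧ k * a * k⁻¹ ∈ L} ≤
          Nat.card L - 1) := by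
  have h1 := hL.1.card_conjugates_le h hL.2.1
  have h0 := Nat.card_pos (α := L)
  refine ⟨Nat.le_of_mul_le_mul_right ?_ (by omega : 0 < 3 * Nat.card L),
    fun e => Nat.le_of_mul_le_mul_right ?_ (by omega : 0 < 6 * Nat.card L)⟩
  · rcases hL.1.card_normalizer h hL.2.1 with e | e <;> rw [e] at h1 <;> nlinarith [h1]
  · rw [e] at h1; nlinarith [h1]

variable [IsSimpleGroup G] (hG : ¬ IsMulCommutative G)
include hG

/-- The facts about the degrees and the two equations, in natural numbers. -/
theorem Counts.exists_m [Fintype G] (D : Counts x) : ∃ m : ℕ,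
    2 * D.A + 4 ≤ 3 * m ∧ 3 * m ≤ 4 * D.A + 2 ∧ (m + (D.A + 2) / 3 + D.A) % 2 = 0 ∧
    3 * (Nat.card (centralizer ({D.t} : Set G)) * Nat.card (centralizer ({D.t} : Set G))) *
      (D.A * (D.A + 1)) = Nat.card G * (m * m) ∧
    ∀ K : ℕ, 6 * Nat.card {a : G // InT x a} ≤ 6 +
        Nat.card {u : G // IsJ x u} * (Nat.card (centralizer ({D.t} : Set G)) - 2) + 6 * K →
      Nat.card G * (D.A * D.A + 2 + (2 * D.A + 1) * m) ≤
        Nat.card G * ((2 * D.A + 1) * D.A) + 18 * (D.A * (D.A + 1)) * K := by
  have h1 := D.s_lower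
  have h2 := D.s_upper
  have h3 := D.parity
  have hA := D.A_mod
  have hA4 := D.four_le
  obtain ⟨m, hm⟩ : ∃ m : ℕ, (m : ℤ) = (D.A : ℤ) - D.s :=
    ⟨((D.A : ℤ) - D.s).toNat, Int.toNat_of_nonneg (by omega)⟩
  refine ⟨m, by omega, by omega, by omega, ?_, fun K hK => ?_⟩
  · have e := D.card_G
    rw [← hm] at e
    rw [← @Nat.cast_inj ℤ]
    push_cast
    linear_combination e
  obtain ⟨u, hu2, hu⟩ := h.exists_inv_ne_bot hG
  have hJ3 := three_le_card_J h (⟨hu, hu2⟩ : IsJ x u)
  have hc2 : 2 ≤ Nat.card (centralizer ({D.t} : Set G)) :=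
    Nat.le_of_dvd Nat.card_pos (by
      have := (D.four_dvd hG).2
      omega)
  have eT := D.card_T
  have eJ := D.card_J
  zify [hc2] at hK hJ3 ⊢
  have hN : (0 : ℤ) ≤ (D.A : ℤ) * ((D.A : ℤ) + 1) := by positivity
  have hK' := mul_le_mul_of_nonneg_left hK hN
  have hJ' := mul_le_mul_of_nonneg_left hJ3 hN
  have hs : D.s = (D.A : ℤ) - m := by omega
  rw [hs] at eJ
  simp only [IsJ] at hK' hJ' ⊢
  nlinarith [hK', hJ', eT, eJ]

omit hG in
/-- The coset of the normalizer of a class of index three bounds the degree. -/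
theorem Counts.A_lt_index [Fintype G] (D : Counts x) {L : Subgroup G} (hL : Inv x L)
    (hN : Nat.card (normalizer (L : Set G)) = Nat.card L * 3) :
    D.A < (normalizer (L : Set G)).index := by
  haveI := irrFintype G
  let X := G ⧸ normalizer (L : Set G)
  obtain ⟨n, ρ, hρ⟩ := isCharacter_fixedBy (G := G) (X := X)
  obtain ⟨k, θ, hθ⟩ := exists_sum_irr ρ
  rw [hρ] at hθ
  have h1 : classInner (fun g : G => (Nat.card (MulAction.fixedBy X g) : ℂ)) (fun _ => 1) = 1 := by
    rw [inner_fixedBy_one, Nat.cast_eq_one, Nat.card_eq_one_iff_unique]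
    refine ⟨⟨fun a b => ?_⟩, ⟨Quotient.mk'' ((1 : G) : X)⟩⟩
    obtain ⟨a, rfl⟩ := Quotient.mk''_surjective a
    obtain ⟨b, rfl⟩ := Quotient.mk''_surjective b
    rw [Quotient.eq'', MulAction.orbitRel_apply, MulAction.mem_orbit_iff]
    exact MulAction.exists_smul_eq G b a
  rw [hθ, show (fun _ : G => (1 : ℂ)) = (principal G : G → ℂ) from funext fun g => (principal_apply g).symm,
    inner_sum_left] at h1
  simp only [inner_irr] at h1
  have h1' : (Finset.univ.filter fun i => θ i = principal G).card = 1 := by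
    rw [Finset.sum_boole] at h1
    exact_mod_cast h1
  -- `x` fixes two points
  have hx2 : 2 ≤ Nat.card (MulAction.fixedBy X x) := by
    have ht : D.t ∉ normalizer (L : Set G) := by
      intro ht
      have htL : D.t ∈ L := by
        haveI : (L.subgroupOf (normalizer (L : Set G))).Normal :=
          (Subgroup.normal_subgroupOf_iff_le_normalizer Subgroup.le_normalizer).2 le_rfl
        have e := CfsgLib.Base.card_mul_card_quotient (L.subgroupOf (normalizer (L : Set G)))
        rw [Base.card_subgroupOf Subgroup.le_normalizer, hN] at e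
        have h3 := Nat.eq_of_mul_eq_mul_left Nat.card_pos e
        have hd := orderOf_map_dvd (QuotientGroup.mk' (L.subgroupOf (normalizer (L : Set G)))) ⟨D.t, ht⟩
        rw [Subgroup.orderOf_mk, D.ht] at hd
        have hd3 := (orderOf_dvd_natCard (QuotientGroup.mk' (L.subgroupOf (normalizer (L : Set G))) ⟨D.t, ht⟩)).trans
          (dvd_of_eq h3)
        have h11 : orderOf (QuotientGroup.mk' (L.subgroupOf (normalizer (L : Set G))) ⟨D.t, ht⟩) = 1 :=
          Nat.eq_one_of_dvd_coprimes (show Nat.Coprime 2 3 by norm_num) hd hd3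
        exact Subgroup.mem_subgroupOf.1 ((QuotientGroup.eq_one_iff _).1 (orderOf_eq_one_iff.1 h11))
      have h3 := (hL.inT h htL).1
      have htt : D.t * D.t = 1 := by rw [← _root_.sq, ← D.ht, pow_orderOf_eq_one]
      have h2 : (D.t * x) ^ 2 = 1 := by
        have := D.inv
        rw [inv_eq_of_mul_eq_one_right htt] at this
        rw [_root_.sq, show D.t * x * (D.t * x) = D.t * x * D.t * x by group, this, inv_mul_cancel]
      have := orderOf_dvd_of_pow_eq_one h2
      rw [h3] at this
      omega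
    have hfix : ∀ g : G, g⁻¹ * x * g ∈ normalizer (L : Set G) →
        ((g : X)) ∈ MulAction.fixedBy X x := fun g hg => by
      show x • (g : X) = g
      rw [MulAction.Quotient.smul_coe, smul_eq_mul, QuotientGroup.eq]
      simpa [mul_assoc] using inv_mem hg
    haveI : Nontrivial (MulAction.fixedBy X x) := by
      refine ⟨⟨⟨((1 : G) : X), hfix 1 (by simpa using hL.1)⟩, ⟨(D.t : X), hfix _ ?_⟩, fun e => ht ?_⟩⟩
      · have htt : D.t * D.t = 1 := by rw [← _root_.sq, ← D.ht, pow_orderOf_eq_one]
        have := D.inv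
        rw [inv_eq_of_mul_eq_one_right htt] at this ⊢
        rw [this]
        exact inv_mem hL.1
      · simpa using QuotientGroup.eq.1 (congrArg Subtype.val e)
    exact Finite.one_lt_card
  have hex := congrFun hθ x
  have he1 := congrFun hθ 1
  simp only [Finset.sum_apply] at hex he1
  by_contra! hle
  have hno : ∀ i, θ i ≠ D.χ := fun i hi => by
    obtain ⟨p, hp⟩ := Finset.card_eq_one.1 h1'
    have hp' : θ p = principal G := (Finset.mem_filter.1 (hp ▸ Finset.mem_singleton_self p : p ∈ _)).2
    have hpi : i ≠ p := fun e => D.ne.1 (hi.symm.trans (e ▸ hp'))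
    have hsum : (charDegree (θ i : G → ℂ) + charDegree (θ p : G → ℂ) : ℕ) ≤
        ∑ j, charDegree (θ j : G → ℂ) := by
      rw [← Finset.sum_pair (f := fun j => charDegree (θ j : G → ℂ)) hpi]
      exact Finset.sum_le_sum_of_subset (Finset.subset_univ _)
    have hn : (normalizer (L : Set G)).index = ∑ j, charDegree (θ j : G → ℂ) := by
      have hfull : Nat.card (MulAction.fixedBy X (1 : G)) = (normalizer (L : Set G)).index := by
        rw [Subgroup.index_eq_card]
        exact Nat.card_congr ((Equiv.setCongr (Set.eq_univ_of_forall fun y => one_smul G y)).trans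
          (Equiv.Set.univ X))
      rw [← @Nat.cast_inj ℂ, ← hfull, he1, Nat.cast_sum]
      exact Finset.sum_congr rfl fun j _ => deg_eq (θ j)
    rw [← hn, hi, (D.deg' h.ne_one).2] at hsum
    have := deg_pos (θ p)
    omega
  have hb : ∀ j, ∃ b : ℕ, ((θ j : G → ℂ) x).re ≤ b ∧ (b = if θ j = principal G then 1 else 0) :=
    fun j => ⟨_, by
      by_cases hj : θ j = principal G
      · rw [if_pos hj, hj, principal_apply]; simp
      · rw [if_neg hj]
        by_cases hj' : θ j = D.χ'
        · rw [hj', D.χ'_x]; norm_num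
        · rw [D.others _ hj (hno j) hj']; simp, rfl⟩
  choose b hb hb' using hb
  have h2 : (Nat.card (MulAction.fixedBy X x) : ℝ) ≤ ∑ j, (b j : ℝ) := by
    have e := congrArg Complex.re hex
    rw [Complex.natCast_re, Complex.re_sum] at e
    rw [e]
    exact Finset.sum_le_sum fun j _ => hb j
  have h3 : ∑ j, b j = 1 := by
    simp only [hb']
    rw [Finset.sum_boole, Nat.cast_id]
    exact h1'
  rw [← Nat.cast_sum, h3, Nat.cast_le] at h2
  omega

set_option maxHeartbeats 2000000 in
/-- The order of a simple group with a self-centralizing element of order three. -/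
theorem SC.card_of_simple : Nat.card G = 60 ∨
    (Nat.card G = 168 ∧ ∃ a : G, a ≠ 1 ∧ InT x a ∧ Odd (orderOf a)) := by
  haveI := Fintype.ofFinite G
  obtain ⟨D⟩ := h.exists_counts hG
  obtain ⟨m, hm1, hm2, hpar, heqG, hmain⟩ := D.exists_m h hG
  have hA := D.A_mod
  have hA4 := D.four_le
  obtain ⟨hg4, hc4⟩ := D.four_dvd hG
  obtain ⟨hdeg', hdeg⟩ := D.deg' h.ne_one
  have hcg : Nat.card (centralizer ({D.t} : Set G)) ∣ Nat.card G := card_subgroup_dvd_card _
  have hcu : ∀ u : G, orderOf u = 2 →
      Nat.card (centralizer ({u} : Set G)) = Nat.card (centralizer ({D.t} : Set G)) :=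
    fun u hu => D.card_centralizer hu
  have h2c := D.two_part_dvd
  have hcpos : 0 < Nat.card (centralizer ({D.t} : Set G)) := Nat.card_pos
  generalize hc : Nat.card (centralizer ({D.t} : Set G)) = c at heqG hmain hc4 hcg hcu h2c hcpos
  have hg0 : 0 < Nat.card G := Nat.card_pos
  have hTle := card_T_le h
  obtain ⟨S, hS, hcop, hfree⟩ := exists_reps h
  have hS6 : ∀ L ∈ S, Nat.card L % 6 = 1 ∧ 7 ≤ Nat.card L := fun L hL => (hS L hL).mod_six h
  have hinj : Set.InjOn (fun L : Subgroup G => Nat.card L) S := fun L hL L' hL' e => by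
    by_contra hne
    have h1 := hcop L hL L' hL' hne
    have e' : Nat.card L = Nat.card L' := e
    rw [e', Nat.coprime_self] at h1
    have := (hS6 L' hL').2
    omega
  obtain ⟨s, hs_def⟩ : ∃ s, s = S.image fun L : Subgroup G => Nat.card L := ⟨_, rfl⟩
  have hsum : ∑ a ∈ s, a = ∑ L ∈ S, Nat.card L := by rw [hs_def, Finset.sum_image hinj]
  have hprod : ∏ a ∈ s, a = ∏ L ∈ S, Nat.card L := by rw [hs_def, Finset.prod_image hinj]
  have hscard : s.card = S.card := by rw [hs_def, Finset.card_image_of_injOn hinj]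
  have hnine := nine_sum_le (s := s)
    (by rw [hs_def]; simp only [Finset.forall_mem_image]; exact fun L hL => (hS6 L hL).2)
    (by rw [hs_def]; simp only [Finset.forall_mem_image]; exact fun L hL => (hS6 L hL).1)
  rw [hsum, hprod, hscard] at hnine
  have hprod6 : (∏ L ∈ S, Nat.card L) % 6 = 1 := by
    rw [Finset.prod_nat_mod, Finset.prod_congr rfl fun L hL => (hS6 L hL).1]
    simp
  have hPdvd : ∏ L ∈ S, Nat.card L ∣ Nat.card G :=
    prod_dvd_of_pairwise_coprime S _ _ (fun L _ => card_subgroup_dvd_card L) hcop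
  have hfree2 : Nat.card {a : G // IsFree x a} ≤ ∑ L ∈ S, 2 * (Nat.card L - 1) :=
    hfree.trans (Finset.sum_le_sum fun L hL => ((hS L hL).card_conjugates h).1)
  have hfreeP : Nat.card {a : G // IsFree x a} ≤ 2 * ∑ L ∈ S, Nat.card L := by
    rw [Finset.mul_sum]
    exact hfree2.trans (Finset.sum_le_sum fun L _ => by omega)
  -- the number of Sylow three-subgroups
  have hg18 : Nat.card G % 18 = 6 := by
    haveI := Fact.mk Nat.prime_three
    obtain ⟨R, hR⟩ := (IsPGroup.of_card (n := 1) (by rw [Nat.card_zpowers, h.ord, pow_one]) :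
      IsPGroup 3 (zpowers x)).exists_le_sylow
    have hReq : (R : Subgroup G) = zpowers x := by
      refine (Subgroup.eq_of_le_of_card_ge hR ?_).symm
      rw [Nat.card_zpowers, h.ord, R.card_eq_multiplicity]
      have h9 := h.not_nine_dvd
      have : (Nat.card G).factorization 3 ≤ 1 := by
        by_contra! hgt
        exact h9 ((Nat.prime_three.pow_dvd_iff_le_factorization Nat.card_pos.ne').2
          (show 2 ≤ _ from hgt))
      calc 3 ^ (Nat.card G).factorization 3 ≤ 3 ^ 1 := Nat.pow_le_pow_right (by norm_num) this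
        _ = 3 := rfl
    have h1 : Nat.card (normalizer (zpowers x : Set G)) = 6 := by
      rcases h.card_normalizer with e | e
      · exfalso
        have hmem : D.t ∈ normalizer (zpowers x : Set G) := by
          refine Subgroup.mem_normalizer_iff.2 fun y => ?_
          have key : ∀ y, y ∈ zpowers x → D.t * y * D.t⁻¹ ∈ zpowers x := fun y hy => by
            obtain ⟨i, rfl⟩ := Subgroup.mem_zpowers_iff.1 hy
            rw [← conj_zpow, D.inv]
            exact zpow_mem (inv_mem (mem_zpowers x)) i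
          refine ⟨key y, fun hy => ?_⟩
          have := key _ hy
          have htt : D.t * D.t = 1 := by rw [← _root_.sq, ← D.ht, pow_orderOf_eq_one]
          rwa [inv_eq_of_mul_eq_one_right htt, show D.t * (D.t * y * D.t) * D.t =
            (D.t * D.t) * y * (D.t * D.t) by group, htt, one_mul, mul_one] at this
        have := orderOf_dvd_natCard (⟨_, hmem⟩ : normalizer (zpowers x : Set G))
        rw [Subgroup.orderOf_mk, D.ht, e] at this
        omega
      · exact e
    have h2 := card_sylow_modEq_one 3 G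
    have h3 := Small.card_normalizer_mul R
    rw [hReq, h1] at h3
    have h4 : Nat.card (Sylow 3 G) % 3 = 1 := h2
    omega
  by_cases hbig : ∃ u, IsJ x u ∧ c < 2 * Nat.card (centV x u)
  · -- a class of even order
    have hfull : ∀ u, IsJ x u → c < 2 * Nat.card (centV x u) →
        IsMaxInv x (centV x u) ∧ Nat.card (centV x u) = c := fun u hu hlt => by
      have hcard : Nat.card (centV x u) = c := by
        obtain ⟨k, hk⟩ := hcu u hu.2 ▸ Subgroup.card_dvd_of_le (centV_le h u)
        rcases k with _ | _ | k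
        · omega
        · omega
        · nlinarith
      refine ⟨⟨inv_centV h hu.2, fun U hU hle => ?_⟩, hcard⟩
      obtain ⟨L, hL, hUL⟩ := exists_isMaxInv hU
      have h2L : 2 ∣ Nat.card L := by
        have := orderOf_dvd_natCard (⟨u, hUL (hle (mem_centV h hu.1))⟩ : L)
        rwa [Subgroup.orderOf_mk, hu.2] at this
      obtain ⟨w, -, hw2, -, hLw⟩ := hL.exists_centV h h2L
      have hle' := Subgroup.card_le_of_le (hLw.trans (centV_le h w))
      rw [hcu w hw2] at hle'
      exact hUL.trans (Subgroup.eq_of_le_of_card_ge (hle.trans hUL) (by omega)).ge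
    obtain ⟨u0, hu0, hu0lt⟩ := hbig
    obtain ⟨hL0, hc0⟩ := hfull u0 hu0 hu0lt
    have hne0 : centV x u0 ≠ ⊥ := fun e => by
      have hmem := mem_centV h hu0.1
      rw [e, Subgroup.mem_bot] at hmem
      have := hu0.2
      rw [hmem, orderOf_one] at this
      omega
    have hc12 : c % 12 = 4 := by
      have := hc0 ▸ hL0.1.card_mod_three h
      omega
    have hN0 : Nat.card (normalizer (centV x u0 : Set G)) = Nat.card (centV x u0) * 3 := by
      refine (hL0.card_normalizer h hne0).resolve_right fun e => ?_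
      have hd := e ▸ card_subgroup_dvd_card (normalizer (centV x u0 : Set G))
      rw [hc0] at hd
      have h2d : 2 ^ ((Nat.card G).factorization 2 + 1) ∣ Nat.card G := by
        rw [pow_succ]
        exact (mul_dvd_mul h2c (show 2 ∣ 6 by norm_num)).trans hd
      have := (Nat.prime_two.pow_dvd_iff_le_factorization Nat.card_pos.ne').1 h2d
      omega
    have hH0 : IsHallLike (centV x u0) := hL0.isHallLike h (Or.inr hN0)
    obtain ⟨n, hn_def⟩ : ∃ n, n = (normalizer (centV x u0 : Set G)).index := ⟨_, rfl⟩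
    have hgn : Nat.card G = 3 * (c * n) := by
      rw [← (normalizer (centV x u0 : Set G)).card_mul_index, hN0, hc0, hn_def]; ring
    have hcn : Nat.Coprime c n := by
      refine Nat.coprime_of_dvd' fun p hp hpc hpn => ?_
      exfalso
      have hf := hH0 p hp (hc0 ▸ hpc)
      rw [hc0] at hf
      have hc0' : c ≠ 0 := fun e => by omega
      have hn0 : n ≠ 0 := fun e => by rw [e] at hgn; omega
      have hd : p ^ (c.factorization p + 1) ∣ Nat.card G := by
        rw [hgn, pow_succ]
        exact (mul_dvd_mul (Nat.ordProj_dvd c p) hpn).trans (dvd_mul_left _ _)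
      have := (hp.pow_dvd_iff_le_factorization Nat.card_pos.ne').1 hd
      omega
    have hn6 : n % 6 = 5 := by
      have h1 : n % 2 = 1 := by
        have := Nat.Coprime.coprime_dvd_left (show 2 ∣ c by omega) hcn
        rcases Nat.mod_two_eq_zero_or_one n with e | e
        · exact absurd (Nat.eq_one_of_dvd_coprimes this dvd_rfl (Nat.dvd_of_mod_eq_zero e)) (by norm_num)
        · exact e
      have h2 : (c * n) % 6 = 2 := by omega
      have h3 : (c * n) % 3 = n % 3 := by
        rw [Nat.mul_mod, show c % 3 = 1 by omega, one_mul, Nat.mod_mod]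
      omega
    have heq : c * (D.A * (D.A + 1)) = n * (m * m) := by
      rw [hgn] at heqG
      refine Nat.eq_of_mul_eq_mul_left (show 0 < 3 * c by omega) ?_
      linarith
    have hAn : D.A < n := by rw [hn_def]; exact D.A_lt_index h hL0.1 hN0
    -- the classes of odd order
    have hPn : 5 * ∑ L ∈ S, Nat.card L ≤ n := by
      have hcS : ∀ L ∈ S, Nat.Coprime (Nat.card L) c := fun L hL => by
        refine Nat.coprime_of_dvd' fun p hp hpL hpc => ?_
        exfalso
        obtain ⟨g, hg⟩ := hL0.exists_conj h (hS L hL).1 hH0 ((hS L hL).isHallLike h) hp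
          (by rwa [hc0]) hpL
        refine (hS L hL).2.2 ?_
        rw [hg, Nat.card_congr (Subgroup.equivMapOfInjective _ _
          (MulAut.conj g).injective).symm.toEquiv, hc0]
        omega
      have h1 : Nat.Coprime (∏ L ∈ S, Nat.card L) (3 * c) := by
        refine Nat.Coprime.mul_right ?_ (Nat.Coprime.prod_left hcS)
        rw [Nat.coprime_comm, Nat.prime_three.coprime_iff_not_dvd]
        omega
      have h2 : ∏ L ∈ S, Nat.card L ∣ n := by
        refine h1.dvd_of_dvd_mul_left ?_
        rw [mul_assoc, ← hgn]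
        exact hPdvd
      obtain ⟨q, hq⟩ := h2
      have hq5 : 5 ≤ q := by
        have e : n % 6 = q % 6 := by rw [hq, Nat.mul_mod, hprod6, one_mul, Nat.mod_mod]
        omega
      rw [hq]
      calc 5 * ∑ L ∈ S, Nat.card L ≤ 5 * ∏ L ∈ S, Nat.card L := Nat.mul_le_mul_left 5 hnine.1
        _ ≤ (∏ L ∈ S, Nat.card L) * q := by rw [mul_comm]; exact Nat.mul_le_mul_left _ hq5
    -- covering
    have hcov : 6 * Nat.card {a : G // a ≠ 1 ∧ ∃ u, IsJ x u ∧ a ∈ centV x u} ≤
        Nat.card {u : G // IsJ x u} * (c - 2) + 12 * c := by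
      have h1 := card_covered_le h (fun u => IsJ x u ∧ 2 * Nat.card (centV x u) ≤ c) (fun u hu => hu.1.2)
        (fun u hu => ⟨hu.1.conj h, by rw [centV_conj h]; exact hu.2⟩) c (fun u hu => hu.2)
      have h2 := hL0.card_conjugates_le h hne0
      rw [hN0, hc0] at h2
      have h3 : Nat.card {u : G // IsJ x u ∧ 2 * Nat.card (centV x u) ≤ c} ≤
          Nat.card {u : G // IsJ x u} :=
        Nat.card_le_card_of_injective (fun u => ⟨u.1, u.2.1⟩)
          (fun a b e => Subtype.ext (Subtype.mk.inj e))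
      have h4 := Nat.mul_le_mul_right (c - 2) h3
      have h5 : Nat.card {a : G // a ≠ 1 ∧ ∃ u, IsJ x u ∧ a ∈ centV x u} ≤
          Nat.card {a : G // a ≠ 1 ∧ ∃ u, (IsJ x u ∧ 2 * Nat.card (centV x u) ≤ c) ∧ a ∈ centV x u} +
          Nat.card {a : G // a ≠ 1 ∧ ∃ g : G, g * x * g⁻¹ ∈ normalizer (centV x u0 : Set G) ∧
            g * a * g⁻¹ ∈ centV x u0} := by
        refine card_subtype_le_add _ _ _ fun a ha => ?_
        obtain ⟨ha1, u, hu, hau⟩ := ha
        rcases Nat.lt_or_ge c (2 * Nat.card (centV x u)) with hlt | hge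
        · obtain ⟨hL, hcu'⟩ := hfull u hu hlt
          have hne : centV x u ≠ ⊥ := fun e => ha1 (by rw [e] at hau; exact Subgroup.mem_bot.1 hau)
          have hN : Nat.card (normalizer (centV x u : Set G)) = Nat.card (centV x u) * 3 := by
            refine (hL.card_normalizer h hne).resolve_right fun e => ?_
            have hd := e ▸ card_subgroup_dvd_card (normalizer (centV x u : Set G))
            rw [hcu', hgn] at hd
            have h62 := Nat.dvd_of_mul_dvd_mul_left (show 0 < c by omega)
              (show c * 6 ∣ c * (3 * n) by rwa [show c * (3 * n) = 3 * (c * n) by ring])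
            omega
          obtain ⟨g, hg⟩ := hL0.exists_conj h hL hH0 (hL.isHallLike h (Or.inr hN)) Nat.prime_two
            (by rw [hc0]; omega) (by rw [hcu']; omega)
          exact Or.inr ⟨ha1, mem_conjugates h hL hg hau⟩
        · exact Or.inl ⟨ha1, u, ⟨hu, hge⟩, hau⟩
      have h6 : Nat.card {a : G // a ≠ 1 ∧ ∃ g : G, g * x * g⁻¹ ∈ normalizer (centV x u0 : Set G) ∧
            g * a * g⁻¹ ∈ centV x u0} ≤ 2 * c := by
        refine Nat.le_of_mul_le_mul_right (h2.trans ?_) (show 0 < c * 3 by omega)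
        nlinarith [Nat.sub_le c 1]
      omega
    have hineq := hmain (2 * ∑ L ∈ S, Nat.card L + 2 * c) (by omega)
    have h54 := lt_of_ineq hg0 hm1 hineq
    obtain ⟨rfl, rfl⟩ := even_case hA4 hA hAn hn6 hc12 hcn hm1 hm2 hpar heq hPn
      (by rw [Nat.mul_comm n c]; omega) (by
      rw [hgn] at hineq
      nlinarith [hineq])
    exact Or.inl hgn
  · -- all classes have odd order
    push Not at hbig
    have hcov := card_covered_le h (IsJ x) (fun u hu => hu.2) (fun u hu => hu.conj h) c hbig
    have hineq := hmain (Nat.card {a : G // IsFree x a}) (by omega)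
    have h54 := lt_of_ineq hg0 hm1 hineq
    obtain ⟨Q, hQ⟩ := hPdvd
    obtain ⟨q, hq⟩ : 3 ∣ Q := by
      refine (Nat.Coprime.dvd_of_dvd_mul_left ?_ (show 3 ∣ (∏ L ∈ S, Nat.card L) * Q by rw [← hQ]; omega))
      rw [Nat.prime_three.coprime_iff_not_dvd]
      omega
    have hgq : Nat.card G = 3 * ((∏ L ∈ S, Nat.card L) * q) := by rw [hQ, hq]; ring
    have hq6 : q % 12 = 8 := by
      have h1 : ((∏ L ∈ S, Nat.card L) * q) % 6 = 2 := by omega
      rw [Nat.mul_mod, hprod6, one_mul, Nat.mod_mod] at h1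
      have h4 : 4 ∣ q := by
        have hd : 4 ∣ (3 * ∏ L ∈ S, Nat.card L) * q := by rw [mul_assoc, ← hgq]; exact hg4
        refine Nat.Coprime.dvd_of_dvd_mul_left ?_ hd
        refine Nat.Coprime.mul_right (by norm_num) ?_
        rw [show (4 : ℕ) = 2 ^ 2 from rfl]
        exact Nat.Coprime.pow_left _ ((Nat.coprime_two_left).2 (Nat.odd_iff.2 (by omega)))
      omega
    rcases Nat.lt_or_ge S.card 2 with hS2 | hS2
    swap
    · exfalso
      have h9 := hnine.2 hS2
      have : 8 * (∏ L ∈ S, Nat.card L) ≤ (∏ L ∈ S, Nat.card L) * q := by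
        rw [mul_comm]; exact Nat.mul_le_mul_left _ (by omega)
      omega
    rcases Nat.eq_zero_or_pos S.card with hS0 | hS0
    · exfalso
      rw [Finset.card_eq_zero] at hS0
      subst hS0
      simp only [Finset.sum_empty] at hfreeP
      omega
    obtain ⟨L, rfl⟩ := Finset.card_eq_one.1 (show S.card = 1 by omega)
    have hL := hS L (Finset.mem_singleton_self L)
    obtain ⟨hl6, hl7⟩ := hS6 L (Finset.mem_singleton_self L)
    simp only [Finset.sum_singleton] at hfree hfree2 hfreeP
    rw [Finset.prod_singleton] at hgq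
    obtain ⟨l, hl⟩ : ∃ l, l = Nat.card L := ⟨_, rfl⟩
    have hN := hL.1.card_normalizer h hL.2.1
    have hidx := (normalizer (L : Set G)).card_mul_index
    have hN3 : Nat.card (normalizer (L : Set G)) = Nat.card L * 3 := by
      refine hN.resolve_right fun e => ?_
      have h1 := hfree.trans ((hL.card_conjugates h).2 e)
      have hq18 : q < 18 := by
        refine Nat.lt_of_mul_lt_mul_left (a := 3 * Nat.card L) ?_
        rw [mul_assoc, ← hgq]
        omega
      have hq8 : q = 8 := by omega
      rw [e, hgq, hq8] at hidx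
      have hi4 : (normalizer (L : Set G)).index = 4 :=
        Nat.eq_of_mul_eq_mul_left (show 0 < Nat.card L * 6 by omega) (by linarith)
      have := Small.five_le_index hG (H := normalizer (L : Set G))
        (fun e => by rw [e, Subgroup.index_top] at hi4; omega)
      omega
    have hindex : (normalizer (L : Set G)).index = q := by
      rw [hN3, hgq] at hidx
      exact Nat.eq_of_mul_eq_mul_left (show 0 < Nat.card L * 3 by omega) (by linarith)
    have hq36 : q < 36 := by
      refine Nat.lt_of_mul_lt_mul_left (a := 3 * Nat.card L) ?_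
      rw [mul_assoc, ← hgq]
      omega
    have hne_top : normalizer (L : Set G) ≠ ⊤ := fun e => by
      rw [e, Subgroup.index_top] at hindex; omega
    have hfact : 2 * Nat.card G ∣ q.factorial := hindex ▸ Small.two_mul_card_dvd_factorial hG hne_top
    have hprime : ∀ p : ℕ, p.Prime → p ∣ Nat.card L → p ∣ q - 1 := fun p hp hpL => by
      haveI := Fact.mk hp
      obtain ⟨P, hP⟩ := exists_prime_sylow hpL
      have hPN := (hL.1.normalizer_eq h P hP).1
      have hcard : Nat.card ((P : Subgroup L).map L.subtype) = p ^ (Nat.card G).factorization p := by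
        rw [Nat.card_congr (Subgroup.equivMapOfInjective _ _ L.subtype_injective).symm.toEquiv,
          P.card_eq_multiplicity, hL.isHallLike h p hp hpL]
      have h1 := (Sylow.ofCard _ hcard).card_eq_index_normalizer
      change Nat.card (Sylow p G) =
        (normalizer (((P : Subgroup L).map L.subtype : Subgroup G) : Set G)).index at h1
      rw [hPN, hindex] at h1
      have h2 : Nat.card (Sylow p G) % p = 1 % p := card_sylow_modEq_one p G
      rw [h1] at h2
      exact (Nat.modEq_iff_dvd' (by omega)).1 h2.symm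
    have helt : ∃ a : G, a ≠ 1 ∧ InT x a ∧ Odd (orderOf a) := by
      obtain ⟨⟨a, haL⟩, ha⟩ := Subgroup.ne_bot_iff_exists_ne_one.1 hL.2.1
      refine ⟨a, fun e => ha (Subtype.ext e), hL.1.1.inT h haL, Nat.odd_iff.2 ?_⟩
      have hd := orderOf_dvd_natCard (⟨a, haL⟩ : L)
      rw [Subgroup.orderOf_mk] at hd
      have := hL.2.2
      have h2 : ¬ 2 ∣ orderOf a := fun e => this (e.trans hd)
      omega
    have hA1 : D.A ∣ Nat.card G := hdeg ▸ Small.charDegree_dvd_card D.χ
    have hA2 : D.A + 1 ∣ Nat.card G := hdeg' ▸ Small.charDegree_dvd_card D.χ'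
    have hsq : D.A * D.A + (D.A + 1) * (D.A + 1) < Nat.card G := by
      haveI := irrFintype G
      rw [← CharApps.sum_degree_sq_nat]
      refine lt_of_lt_of_le ?_ (Finset.sum_le_sum_of_subset
        (Finset.subset_univ ({principal G, D.χ, D.χ'} : Finset (IrrCharacter G))))
      rw [Finset.sum_insert (by simp [D.ne.1.symm, D.ne.2.1.symm]), Finset.sum_pair D.ne.2.2, hdeg, hdeg']
      have := deg_pos (principal G)
      nlinarith
    have hsolve : ∀ r, r.Prime → q - 1 = r → ¬ 2 * (3 * (r ^ 2 * q)) ∣ q.factorial →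
        Nat.card L = r := fun r hr hqr hnd => by
      have hpow := Nat.eq_prime_pow_of_unique_prime_dvd (n := Nat.card L) (p := r) (by omega)
        (fun {d} hd hdL => (Nat.prime_dvd_prime_iff_eq hd hr).1 (hqr ▸ hprime d hd hdL))
      generalize (Nat.card L).primeFactorsList.length = k at hpow
      rcases k with _ | _ | k
      · rw [pow_zero] at hpow; omega
      · rw [hpow, pow_one]
      · exfalso
        refine hnd (dvd_trans ?_ hfact)
        rw [hgq, hpow]
        exact mul_dvd_mul_left 2 (mul_dvd_mul_left 3 (mul_dvd_mul_right (pow_dvd_pow r (by omega)) q))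
    rcases (show q = 8 ∨ q = 20 ∨ q = 32 by omega) with rfl | rfl | rfl
    · right
      refine ⟨?_, helt⟩
      rw [hgq, hsolve 7 (by norm_num) rfl (by decide +kernel)]
    · exfalso
      have e := hsolve 19 (by norm_num) rfl (by decide +kernel)
      rw [e] at hgq hfree2
      norm_num [-Nat.card_eq_fintype_card] at hgq hfree2
      rw [hgq] at hA1 hA2 hsq hcg heqG hineq
      exact no_1140 hA4 hA hA1 hA2 hsq hc4 hcg hm1 hm2 hpar heqG (hineq.trans (by gcongr))
    · exfalso
      have e := hsolve 31 (by norm_num) rfl (by decide +kernel)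
      rw [e] at hgq hfree2
      norm_num [-Nat.card_eq_fintype_card] at hgq hfree2
      rw [hgq] at hA1 hA2 hsq hcg heqG hineq
      exact no_2976 hA4 hA hA1 hA2 hsq hc4 hcg hm1 hm2 hpar heqG (hineq.trans (by gcongr))

end CfsgLib.CharsMore.SCOrder3
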